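import Groth.Agent.Hensel.Completion
import Groth.Agent.EGA4Lib.DepthFlat
import Groth.Agent.EGA4Lib.FibreLoc
import Groth.Agent.EGA4Lib.SkFibers
import Groth.Agent.RegLoc.Homological
import Groth.Agent.Dim.LocalHom
import Groth.Agent.EGA4Lib.LocusCpl
import Groth.Agent.Hensel.RegularHom
import Groth.Agent.GeomFieldLib.CMTensor
import Groth.Agent.RegLoc.UFD

/-!
# Noetherian local rings with the same completion
-/

set_option autoImplicit false
set_option linter.style.haveILetI false

universe u

open IsLocalRing TensorProduct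

namespace Groth.Agent.AnStalk

/-- Flatness descends along a faithfully flat extension of the algebra. -/
theorem flat_of_faithfullyFlat (A B C : Type u) [CommRing A] [CommRing B] [CommRing C] [Algebra A B]
    [Algebra B C] [Algebra A C] [IsScalarTower A B C] [Module.FaithfullyFlat B C] [Module.Flat A C] :
    Module.Flat A B := by
  rw [Module.Flat.iff_lTensor_preserves_injective_linearMap]
  intro N P _ _ _ _ f hf
  suffices h : Function.Injective (f.baseChange B) from h
  rw [← Module.FaithfullyFlat.lTensor_injective_iff_injective B C]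
  let eN := TensorProduct.AlgebraTensorModule.cancelBaseChange A B C C N
  let eP := TensorProduct.AlgebraTensorModule.cancelBaseChange A B C C P
  have h2 : ∀ z, eP (LinearMap.lTensor C (f.baseChange B) z) = LinearMap.lTensor C f (eN z) := by
    intro z
    induction z using TensorProduct.induction_on with
    | zero => simp
    | add a b ha hb => simp only [map_add, ha, hb]
    | tmul c w =>
      induction w using TensorProduct.induction_on with
      | zero => simp
      | add a b ha hb => simp only [TensorProduct.tmul_add, map_add, ha, hb]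
      | tmul b n => simp [eN, eP]
  intro x y hxy
  apply eN.injective
  apply Module.Flat.lTensor_preserves_injective_linearMap (M := C) f hf
  rw [← h2, ← h2, hxy]

/-- `R → H` induces bijections on all quotients by powers of the maximal ideals. -/
structure SameCompletion (R H : Type u) [CommRing R] [CommRing H] [IsLocalRing R] [IsLocalRing H]
    [Algebra R H] : Prop where
  map_max : (maximalIdeal R).map (algebraMap R H) = maximalIdeal H
  surj : ∀ (b : H) (n : ℕ), ∃ a, algebraMap R H a - b ∈ maximalIdeal H ^ n
  inj : ∀ (a : R) (n : ℕ), algebraMap R H a ∈ maximalIdeal H ^ n → a ∈ maximalIdeal R ^ n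

namespace SameCompletion

variable {R H : Type u} [CommRing R] [CommRing H] [IsLocalRing R] [IsLocalRing H] [IsNoetherianRing R]
  [IsNoetherianRing H] [Algebra R H] (h : SameCompletion R H)
include h

omit [IsNoetherianRing R] [IsNoetherianRing H] in
theorem isLocalHom : IsLocalHom (algebraMap R H) :=
  ((local_hom_TFAE (algebraMap R H)).out 0 2).2 h.map_max.le

theorem nonempty_equiv :
    Nonempty (AdicCompletion (maximalIdeal R) R ≃ₐ[R] AdicCompletion (maximalIdeal H) H) := by
  haveI := h.isLocalHom
  let T := AdicCompletion (maximalIdeal H) H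
  haveI : IsNoetherianRing T := RegLoc.Completion.isNoetherianRing_adicCompletion' _
  haveI : Module.FaithfullyFlat H T := Module.FaithfullyFlat.of_flat_of_isLocalHom
  have hT : (maximalIdeal R).map (algebraMap R T) = maximalIdeal T := by
    rw [IsScalarTower.algebraMap_eq R H T, ← Ideal.map_map, h.map_max, ← AdicCompletion.maximalIdeal_eq_map]
  haveI : IsAdicComplete ((maximalIdeal R).map (algebraMap R T)) T := by rw [hT]; infer_instance
  have hpow : ∀ n, (maximalIdeal R ^ n).map (algebraMap R T) = (maximalIdeal H ^ n).map (algebraMap H T) := fun n => by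
    rw [IsScalarTower.algebraMap_eq R H T, ← Ideal.map_map, Ideal.map_pow (algebraMap R H), h.map_max]
  refine Hensel.nonempty_completion_equiv (maximalIdeal R) T (fun n c => ?_) (fun n a ha => ?_)
  · obtain ⟨y, hy⟩ := Submodule.mkQ_surjective _ (c.val n)
    obtain ⟨r, hr⟩ := h.surj y n
    refine ⟨r, ?_⟩
    rw [hpow]
    have h1 : c - algebraMap H T y ∈ (maximalIdeal H ^ n).map (algebraMap H T) := by
      rw [← Submodule.restrictScalars_mem H, ← Ideal.smul_top_eq_map,
        AdicCompletion.pow_smul_top_eq_ker_eval (IsNoetherian.noetherian _), LinearMap.mem_ker, map_sub,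
        sub_eq_zero]
      exact hy.symm
    have h2 := Ideal.mem_map_of_mem (algebraMap H T) hr
    rw [map_sub, ← IsScalarTower.algebraMap_apply] at h2
    have := sub_mem h1 h2
    rwa [sub_sub_sub_cancel_right] at this
  · rw [Ideal.mem_comap, hpow, IsScalarTower.algebraMap_apply R H T, ← Ideal.mem_comap,
      Ideal.comap_map_eq_self_of_faithfullyFlat] at ha
    exact h.inj a n ha

theorem flat : Module.Flat R H := by
  obtain ⟨e⟩ := h.nonempty_equiv
  haveI : Module.FaithfullyFlat H (AdicCompletion (maximalIdeal H) H) := Module.FaithfullyFlat.of_flat_of_isLocalHom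
  haveI : Module.Flat R (AdicCompletion (maximalIdeal H) H) := Module.Flat.of_linearEquiv e.toLinearEquiv.symm
  exact flat_of_faithfullyFlat R H (AdicCompletion (maximalIdeal H) H)

theorem faithfullyFlat : Module.FaithfullyFlat R H := by
  haveI := h.isLocalHom
  haveI := h.flat
  exact Module.FaithfullyFlat.of_flat_of_isLocalHom

theorem ringKrullDim_eq : ringKrullDim R = ringKrullDim H := by
  haveI := h.isLocalHom
  haveI := h.flat
  haveI : Nontrivial (H ⧸ (maximalIdeal R).map (algebraMap R H)) :=
    Ideal.Quotient.nontrivial_iff.2 (by rw [h.map_max]; exact (maximalIdeal.isMaximal H).ne_top)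
  rw [Groth.Agent.Dim.ringKrullDim_eq_add_fibre R H, ringKrullDim_eq_zero_of_isField
    ((Ideal.Quotient.maximal_ideal_iff_isField_quotient _).1 (h.map_max ▸ maximalIdeal.isMaximal H)), add_zero]

theorem isRegularLocalRing_iff : IsRegularLocalRing R ↔ IsRegularLocalRing H := by
  haveI := h.isLocalHom
  haveI := h.flat
  refine ⟨fun hR => ?_, fun hH => RegLoc.Homological.isRegularLocalRing_of_flat H⟩
  let F := (Ideal.Quotient.maximal_ideal_iff_isField_quotient _).1 (h.map_max ▸ maximalIdeal.isMaximal H)
  letI := F.toField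
  haveI : IsRegularLocalRing (H ⧸ (maximalIdeal R).map (algebraMap R H)) := inferInstance
  exact EGA4Lib.isRegularLocalRing_of_fibre R H

theorem depth_eq : LocCoh.depth R R = LocCoh.depth H H := by
  haveI := h.isLocalHom
  haveI := h.flat
  have hd := EGA4Lib.depth_tensor_of_flat (R := R) (S := H) (N := H) (M := R)
  let e : H ⊗[R] R ≃ₗ[H] H := AlgebraTensorModule.rid R H H
  rw [(EGA4Lib.depth_supportDim_congr (L := H) e).1] at hd
  have h0 : LocCoh.depth H (H ⧸ (maximalIdeal R).map (algebraMap R H) • (⊤ : Submodule H H)) = 0 := by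
    rw [h.map_max, smul_eq_mul, Ideal.mul_top]
    rw [Depth.depth_eq_idealDepth, Depth.idealDepth_eq_zero_iff]
    haveI : Nontrivial (H ⧸ maximalIdeal H) := Ideal.Quotient.nontrivial_iff.2 (maximalIdeal.isMaximal H).ne_top
    obtain ⟨p, hp⟩ := associatedPrimes.nonempty H (H ⧸ maximalIdeal H)
    refine ⟨p, hp, le_trans ?_ (Depth.annihilator_le_associatedPrime hp)⟩
    rw [Ideal.annihilator_quotient]
  rw [hd, h0, add_zero]

theorem isCohenMacaulayLocalRing_iff :
    LocCoh.IsCohenMacaulayLocalRing R ↔ LocCoh.IsCohenMacaulayLocalRing H := by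
  have hs : Module.supportDim R R = Module.supportDim H H := by
    rw [Module.supportDim_self_eq_ringKrullDim, Module.supportDim_self_eq_ringKrullDim, h.ringKrullDim_eq]
  refine ⟨fun hR => ⟨?_⟩, fun hH => ⟨?_⟩⟩
  · rw [← hs, ← h.depth_eq]; exact hR.supportDim_eq_depth
  · rw [hs, h.depth_eq]; exact hH.supportDim_eq_depth

omit [IsNoetherianRing R] [IsNoetherianRing H] h in
theorem isRegularRing_fiber {T : Type u} [CommRing T] [Algebra R T] (hT : CAlg.IsRegularHom R T)
    (p : Ideal R) [p.IsPrime] : IsRegularRing (p.Fiber T) := by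
  haveI := (hT.2 p).2 p.ResidueField inferInstance
  exact IsRegularRing.of_ringEquiv (R := TensorProduct p.ResidueField p.ResidueField (p.Fiber T))
    (Algebra.TensorProduct.lid p.ResidueField (p.Fiber T)).toRingEquiv

/-- The completion of `H` as a regular `R`-algebra. -/
theorem regular_cpl (hR : CAlg.IsRegularHom R (AdicCompletion (maximalIdeal R) R)) :
    CAlg.IsRegularHom R (AdicCompletion (maximalIdeal H) H) := by
  obtain ⟨e⟩ := h.nonempty_equiv
  exact Hensel.isRegularHom_congr e hR

theorem hasSk_iff (hR : CAlg.IsRegularHom R (AdicCompletion (maximalIdeal R) R)) (k : ℕ) :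
    LocCoh.HasSk k R R ↔ LocCoh.HasSk k H H := by
  let T := AdicCompletion (maximalIdeal H) H
  have hT := h.regular_cpl hR
  haveI : IsNoetherianRing T := RegLoc.Completion.isNoetherianRing_adicCompletion' _
  haveI := h.faithfullyFlat
  haveI : Module.FaithfullyFlat H T := Module.FaithfullyFlat.of_flat_of_isLocalHom
  haveI : Module.Flat R T := hT.1
  refine ⟨fun hk => EGA4Lib.hasSk_of_faithfullyFlat H (B := T) k
    (EGA4Lib.hasSk_of_flat_of_fibres R k hk fun p _ => ?_), EGA4Lib.hasSk_of_faithfullyFlat R (B := H) k⟩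
  haveI := isRegularRing_fiber hT p
  exact GeomFieldLib.hasSk_of_isCohenMacaulayRing (GeomFieldLib.isCohenMacaulayRing_of_isRegularRing _) k

omit [IsLocalRing R] [IsLocalRing H] h in
theorem hasRk_of_faithfullyFlat [Module.FaithfullyFlat R H] (k : ℕ) (hH : LocCoh.HasRk k H) :
    LocCoh.HasRk k R := by
  intro p _ hp
  haveI : Module.Flat R H := inferInstance
  obtain ⟨⟨m, hm⟩, hmp⟩ := PrimeSpectrum.comap_surjective_of_faithfullyFlat (B := H) (⟨p, ‹_›⟩ : PrimeSpectrum R)
  have hmp' : m.comap (algebraMap R H) = p := congrArg PrimeSpectrum.asIdeal hmp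
  obtain ⟨q, hq, hqm⟩ := Ideal.exists_minimalPrimes_le
    (show p.map (algebraMap R H) ≤ m from Ideal.map_le_iff_le_comap.2 hmp'.ge)
  haveI := hq.1.1
  have hover : p = q.comap (algebraMap R H) :=
    le_antisymm (Ideal.map_le_iff_le_comap.1 hq.1.2) ((Ideal.comap_mono hqm).trans hmp'.le)
  subst hover
  have h1 : EGA4.HasRkAt k H q := (EGA4Lib.hasRkAt_iff k q).2 fun r _ hr => hH r.asIdeal hr
  exact (EGA4Lib.hasRkAt_iff k _).1 (EGA4Lib.hasRkAt_descent k q h1) (⟨q.comap (algebraMap R H), inferInstance⟩ : PrimeSpectrum R) le_rfl hp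

theorem hasRk_iff (hR : CAlg.IsRegularHom R (AdicCompletion (maximalIdeal R) R)) (k : ℕ) :
    LocCoh.HasRk k R ↔ LocCoh.HasRk k H := by
  let T := AdicCompletion (maximalIdeal H) H
  have hT := h.regular_cpl hR
  haveI : IsNoetherianRing T := RegLoc.Completion.isNoetherianRing_adicCompletion' _
  haveI := h.faithfullyFlat
  haveI : Module.FaithfullyFlat H T := Module.FaithfullyFlat.of_flat_of_isLocalHom
  haveI : Module.Flat R T := hT.1
  refine ⟨fun hk => hasRk_of_faithfullyFlat (R := H) (H := T) k fun q _ hq => ?_, hasRk_of_faithfullyFlat k⟩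
  refine (EGA4Lib.isRegularLocalRing_iff_of_regularFibres (fun p _ => (hT.2 p).2) q).2 (hk _ ?_)
  haveI : q.LiesOver (q.comap (algebraMap R T)) := ⟨rfl⟩
  rw [Ideal.height_eq_height_add_of_liesOver_of_hasGoingDown (q.comap (algebraMap R T)) q] at hq
  exact le_trans le_self_add hq

theorem normal_iff (hR : CAlg.IsRegularHom R (AdicCompletion (maximalIdeal R) R)) :
    (IsDomain R ∧ IsIntegrallyClosed R) ↔ (IsDomain H ∧ IsIntegrallyClosed H) := by
  let T := AdicCompletion (maximalIdeal H) H
  have hT := h.regular_cpl hR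
  haveI : IsNoetherianRing T := RegLoc.Completion.isNoetherianRing_adicCompletion' _
  haveI := h.faithfullyFlat
  haveI : Module.FaithfullyFlat H T := Module.FaithfullyFlat.of_flat_of_isLocalHom
  haveI : Module.Flat R T := hT.1
  refine ⟨fun ⟨_, _⟩ => ?_, fun ⟨_, _⟩ => EGA4Lib.isDomain_isIntegrallyClosed_of_faithfullyFlat R H⟩
  let q := maximalIdeal T
  let p := q.comap (algebraMap R T)
  haveI : IsDomain (Localization.AtPrime p) :=
    IsLocalization.isDomain_localization (Ideal.primeCompl_le_nonZeroDivisors p)
  haveI : IsIntegrallyClosed (Localization.AtPrime p) :=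
    isIntegrallyClosed_of_isLocalization _ p.primeCompl (Ideal.primeCompl_le_nonZeroDivisors p)
  have hq : IsDomain (Localization.AtPrime q) ∧ IsIntegrallyClosed (Localization.AtPrime q) := by
    refine Groth.Agent.S2611.result R T (fun r _ => ?_) q
    haveI := EGA4Lib.isRegularLocalRing_fibLocRing R (fun p _ => (hT.2 p).2) r
    haveI hd : IsDomain (EGA4.FibLocRing R T r) := RegLoc.isDomain _
    haveI := RegLoc.UFD.uniqueFactorizationMonoid (EGA4.FibLocRing R T r)
    exact ⟨hd, UniqueFactorizationMonoid.instIsIntegrallyClosed⟩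
  let e : T ≃+* Localization.AtPrime q := (IsLocalization.atUnits T q.primeCompl
    (S := Localization.AtPrime q) (fun t ht => IsLocalRing.notMem_maximalIdeal.1 ht)).toRingEquiv
  haveI := hq.1
  haveI := hq.2
  haveI : IsDomain T := e.toMulEquiv.isDomain _
  haveI : IsIntegrallyClosed T := IsIntegrallyClosed.of_equiv (R := Localization.AtPrime q) (S := T) e.symm
  exact EGA4Lib.isDomain_isIntegrallyClosed_of_faithfullyFlat H T

end SameCompletion

end Groth.Agent.AnStalk
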