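import Groth.Agent.AnStalk.Stalk
import Groth.Agent.AnStalk.Compare
import Groth.Agent.EGA4Lib.GRingPoly
import Mathlib.AlgebraicGeometry.Noetherian

/-!
# `O_{X,x} → O_{X^an,x}`: same completion, regular formal fibres
-/

set_option autoImplicit false
set_option backward.isDefEq.respectTransparency false

open AlgebraicGeometry CategoryTheory IsLocalRing
open An

namespace Groth.Agent.AnStalk

variable {X : Scheme.{0}} [X.Over SC] [LocallyOfFiniteType (X ↘ SC)]

/-- The algebra structure `O_{X,x} → O_{X^an,x}`. -/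
noncomputable abbrev stalkAlgebra (x : Pts X) : Algebra (X.presheaf.stalk x.pt) (Stk x) := (phi x).toAlgebra

theorem isNoetherianRing_stalk (p : X) : IsNoetherianRing (X.presheaf.stalk p) := by
  haveI : IsLocallyNoetherian X := LocallyOfFiniteType.isLocallyNoetherian (X ↘ SC)
  infer_instance

theorem sameCompletion [AlgebraicGeometry.IsReduced X] (x : Pts X) :
    letI := stalkAlgebra x
    SameCompletion (X.presheaf.stalk x.pt) (Stk x) :=
  letI := stalkAlgebra x
  ⟨map_maximalIdeal, exists_sub_mem, fun _ _ h => mem_pow_of_phi_mem h⟩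

theorem isRegularHom_stalk (x : Pts X) :
    CAlg.IsRegularHom (X.presheaf.stalk x.pt)
      (AdicCompletion (maximalIdeal (X.presheaf.stalk x.pt)) (X.presheaf.stalk x.pt)) := by
  obtain ⟨c⟩ := exists_chart x
  haveI := isNoetherianRing_stalk x.pt
  letI : Algebra ℂ Γ(X, c.W) := (str c.W).toAlgebra
  have hsurj : Function.Surjective (MvPolynomial.aeval c.s : MvPolynomial (Fin c.n) ℂ →ₐ[ℂ] Γ(X, c.W)) := fun f => by
    obtain ⟨Q, hQ⟩ := c.surj f
    refine ⟨Q, Eq.trans ?_ hQ⟩
    rw [MvPolynomial.aeval_def]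
    rfl
  haveI : Algebra.FiniteType ℂ Γ(X, c.W) := Algebra.FiniteType.of_surjective _ hsurj
  haveI : IsAdicComplete (maximalIdeal ℂ) ℂ := by
    rw [IsLocalRing.maximalIdeal_eq_bot]; infer_instance
  have hA := EGA4Lib.Jac.isGRing_of_finiteType (EGA4Lib.Jac.isGRing_of_isAdicComplete ℂ) Γ(X, c.W)
  haveI := hA.1
  let p := (c.hW.primeIdealOf ⟨x.pt, c.hx⟩).asIdeal
  letI : Algebra Γ(X, c.W) (X.presheaf.stalk x.pt) := (X.presheaf.germ c.W x.pt c.hx).hom.toAlgebra
  haveI : IsLocalization.AtPrime (X.presheaf.stalk x.pt) p := c.hW.isLocalization_stalk ⟨x.pt, c.hx⟩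
  haveI : IsNoetherianRing (Localization.AtPrime p) := IsLocalization.isNoetherianRing p.primeCompl _ inferInstance
  exact EGA4Lib.Jac.isRegularHom_completion_of_ringEquiv
    (IsLocalization.algEquiv p.primeCompl (Localization.AtPrime p) (X.presheaf.stalk x.pt)).toRingEquiv (hA.2 p)

end Groth.Agent.AnStalk
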