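import Mathlib.Analysis.Complex.Liouville
import Mathlib.Analysis.Complex.CauchyIntegral
import Mathlib.Analysis.Calculus.ParametricIntervalIntegral
import Mathlib.MeasureTheory.Integral.CircleIntegral
import Mathlib.Analysis.Calculus.MeanValue
import Mathlib.Analysis.Calculus.FDeriv.Comp
import Mathlib.Analysis.Calculus.Deriv.Slope

/-!
# Holomorphic functions of several variables: Cauchy estimate, strictness, parametric circle integrals
-/

set_option autoImplicit false

open Metric Filter Topology Set MeasureTheory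
open scoped Interval

namespace Groth.Agent.AnStalk

variable {E F : Type*} [NormedAddCommGroup E] [NormedSpace ℂ E] [NormedAddCommGroup F] [NormedSpace ℂ F]

theorem norm_fderiv_le_of_bound {f : E → F} {p : E} {r M : ℝ} (hr : 0 < r)
    (hf : DifferentiableOn ℂ f (ball p r)) (hb : ∀ q ∈ ball p r, ‖f q‖ ≤ M) :
    ‖fderiv ℂ f p‖ ≤ 2 * M / r := by
  have hM : 0 ≤ M := (norm_nonneg _).trans (hb p (mem_ball_self hr))
  refine ContinuousLinearMap.opNorm_le_bound _ (by positivity) fun v => ?_
  rcases eq_or_ne v 0 with rfl | hv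
  · simp
  have hv' : 0 < ‖v‖ := norm_pos_iff.2 hv
  let s : ℝ := r / (2 * ‖v‖)
  have hs : 0 < s := by positivity
  have hmem : ∀ z : ℂ, ‖z‖ ≤ s → p + z • v ∈ ball p r := by
    intro z hz
    rw [mem_ball, dist_self_add_left, norm_smul]
    calc ‖z‖ * ‖v‖ ≤ s * ‖v‖ := mul_le_mul_of_nonneg_right hz hv'.le
      _ = r / 2 := by simp only [s]; field_simp
      _ < r := half_lt_self hr
  let h : ℂ → F := fun z => f (p + z • v)
  have hd : DifferentiableOn ℂ h (closedBall 0 s) := fun z hz => by
    have h1 : DifferentiableAt ℂ f (p + z • v) :=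
      hf.differentiableAt (isOpen_ball.mem_nhds (hmem z (by simpa using hz)))
    exact (h1.comp z (by fun_prop)).differentiableWithinAt
  have h1 := Complex.norm_deriv_le_of_forall_mem_sphere_norm_le (f := h) (C := M) hs
    (hd.diffContOnCl_ball Subset.rfl) (fun z hz => hb _ (hmem z (le_of_eq (mem_sphere_zero_iff_norm.1 hz))))
  have h2 : deriv h 0 = fderiv ℂ f p v := by
    have hp : HasFDerivAt f (fderiv ℂ f p) (p + (0 : ℂ) • v) := by
      simpa using (hf.differentiableAt (isOpen_ball.mem_nhds (mem_ball_self hr))).hasFDerivAt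
    exact (hp.comp_hasDerivAt (0 : ℂ) (((hasDerivAt_id (0 : ℂ)).smul_const v).const_add p)).deriv.trans
      (by simp)
  rw [h2] at h1
  refine h1.trans (le_of_eq ?_)
  simp only [s]
  field_simp

theorem continuousAt_fderiv {f : E → F} {x : E} (hf : ∀ᶠ z in 𝓝 x, DifferentiableAt ℂ f z) :
    ContinuousAt (fderiv ℂ f) x := by
  obtain ⟨R, hR, hRf⟩ := Metric.eventually_nhds_iff_ball.1 hf
  rw [Metric.continuousAt_iff]
  intro e he
  let L := fderiv ℂ f x
  have ho := (hRf x (mem_ball_self hR)).hasFDerivAt.isLittleO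
  obtain ⟨r₀, hr₀, hr₀f⟩ := Metric.eventually_nhds_iff_ball.1 (ho.def (c := e / 5) (by positivity))
  let r : ℝ := min R r₀ / 2
  have hr : 0 < r := by positivity
  refine ⟨r, hr, fun {y} hy => ?_⟩
  let g : E → F := fun z => f z - f x - L (z - x)
  have hsub : ball y r ⊆ ball x R ∩ ball x r₀ := fun z hz => by
    have h1 : dist z x < min R r₀ := (dist_triangle z y x).trans_lt (by
      have := mem_ball.1 hz; simp only [r] at this hy; linarith)
    exact ⟨mem_ball.2 (h1.trans_le (min_le_left _ _)), mem_ball.2 (h1.trans_le (min_le_right _ _))⟩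
  have hgd : DifferentiableOn ℂ g (ball y r) := fun z hz =>
    (((hRf z (hsub hz).1).sub_const _).sub (L.differentiableAt.comp z (differentiableAt_id.sub_const x))).differentiableWithinAt
  have hgb : ∀ z ∈ ball y r, ‖g z‖ ≤ e / 5 * (2 * r) := by
    intro z hz
    refine (hr₀f z (hsub hz).2).trans (mul_le_mul_of_nonneg_left ?_ (by positivity))
    rw [← dist_eq_norm]
    exact ((dist_triangle z y x).trans (add_le_add (mem_ball.1 hz).le hy.le)).trans (by ring_nf; exact le_rfl)
  have h1 := norm_fderiv_le_of_bound hr hgd hgb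
  have h2 : fderiv ℂ g y = fderiv ℂ f y - L := by
    have h3 := ((hRf y (hsub (mem_ball_self hr)).1).hasFDerivAt.sub_const (f x)).sub
      (L.hasFDerivAt.comp y ((hasFDerivAt_id y).sub_const x))
    rw [ContinuousLinearMap.comp_id] at h3
    exact h3.fderiv
  rw [h2] at h1
  rw [dist_eq_norm]
  refine h1.trans_lt ?_
  field_simp
  linarith

theorem hasStrictFDerivAt_of_eventually {f : E → F} {x : E} (hf : ∀ᶠ z in 𝓝 x, DifferentiableAt ℂ f z) :
    HasStrictFDerivAt f (fderiv ℂ f x) x :=
  hasStrictFDerivAt_of_hasFDerivAt_of_continuousAt (hf.mono fun _ h => h.hasFDerivAt) (continuousAt_fderiv hf)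

/-- A circle integral depending holomorphically on parameters. -/
theorem differentiableOn_circleIntegral [FiniteDimensional ℂ E] {U : Set E} (hU : IsOpen U) {ε : ℝ}
    (hε : 0 ≤ ε) {G : E → ℂ → ℂ}
    (hc : ContinuousOn (fun p : E × ℂ => G p.1 p.2) (U ×ˢ sphere (0 : ℂ) ε))
    (hd : ∀ ζ ∈ sphere (0 : ℂ) ε, DifferentiableOn ℂ (fun p => G p ζ) U) :
    DifferentiableOn ℂ (fun p => ∮ ζ in C(0, ε), G p ζ) U := by
  intro p hp
  refine DifferentiableAt.differentiableWithinAt ?_
  obtain ⟨r, hr, hrU⟩ : ∃ r > 0, closedBall p (2 * r) ⊆ U := by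
    obtain ⟨r, hr, h⟩ := nhds_basis_closedBall.mem_iff.1 (hU.mem_nhds hp)
    exact ⟨r / 2, half_pos hr, by rwa [show 2 * (r / 2) = r by ring]⟩
  haveI : ProperSpace E := FiniteDimensional.proper ℂ E
  obtain ⟨M, hM⟩ := ((isCompact_closedBall p (2 * r)).prod (isCompact_sphere (0 : ℂ) ε)).exists_bound_of_continuousOn
    (hc.mono (prod_mono hrU Subset.rfl))
  let cm : ℝ → ℂ := circleMap 0 ε
  let Φ : E → ℝ → ℂ := fun q θ => deriv cm θ * G q (cm θ)
  let Φ' : E → ℝ → E →L[ℂ] ℂ := fun q θ => fderiv ℂ (fun q => Φ q θ) q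
  have hcm : ∀ θ, cm θ ∈ sphere (0 : ℂ) ε := fun θ => circleMap_mem_sphere 0 hε θ
  have hball : ball p r ⊆ U := ball_subset_closedBall.trans ((closedBall_subset_closedBall (by linarith)).trans hrU)
  have hΦd : ∀ θ, DifferentiableOn ℂ (fun q => Φ q θ) U := fun θ => (hd _ (hcm θ)).const_mul _
  have hdc : Continuous (deriv cm) := by
    rw [show deriv cm = fun θ => circleMap 0 ε θ * Complex.I from funext fun θ => deriv_circleMap 0 ε θ]
    fun_prop
  have hΦc : ∀ q ∈ U, Continuous (Φ q) := fun q hq =>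
    hdc.mul (hc.comp_continuous (f := fun θ => (q, cm θ)) (continuous_const.prodMk (continuous_circleMap _ _))
      fun θ => ⟨hq, hcm θ⟩)
  have hbound : ∀ θ, ∀ q ∈ ball p r, ‖Φ' q θ‖ ≤ 2 * (ε * M) / r := by
    intro θ q hq
    have hsub : ball q r ⊆ closedBall p (2 * r) := fun z hz => mem_closedBall.2 (by
      have := dist_triangle z q p; have := mem_ball.1 hz; have := mem_ball.1 hq; linarith)
    refine norm_fderiv_le_of_bound hr ((hΦd θ).mono (hsub.trans hrU)) fun z hz => ?_
    rw [norm_mul]
    refine mul_le_mul (le_of_eq ?_) (hM (z, cm θ) ⟨hsub hz, hcm θ⟩) (norm_nonneg _) hε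
    simp [cm, deriv_circleMap, abs_of_nonneg hε]
  have hdiff : ∀ θ, ∀ q ∈ ball p r, HasFDerivAt (fun q => Φ q θ) (Φ' q θ) q := fun θ q hq =>
    ((hΦd θ).differentiableAt (hU.mem_nhds (hball hq))).hasFDerivAt
  have hmeas : AEStronglyMeasurable (Φ' p) (volume.restrict (Ι 0 (2 * Real.pi))) := by
    let b := Module.finBasis ℂ E
    have key : ∀ v : E, AEStronglyMeasurable (fun θ => Φ' p θ v) (volume.restrict (Ι 0 (2 * Real.pi))) := by
      intro v
      let t : ℕ → ℂ := fun k => ((r / (‖v‖ + 1) / (k + 1) : ℝ) : ℂ)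
      have ht : Tendsto t atTop (𝓝[≠] 0) := by
        refine tendsto_nhdsWithin_iff.2 ⟨?_, Eventually.of_forall fun k => ?_⟩
        · have := (tendsto_one_div_add_atTop_nhds_zero_nat).const_mul (r / (‖v‖ + 1))
          rw [mul_zero] at this
          refine (Complex.continuous_ofReal.tendsto' 0 0 Complex.ofReal_zero).comp (this.congr fun k => ?_)
          ring
        · simp only [t, mem_compl_iff, mem_singleton_iff, Complex.ofReal_eq_zero]
          positivity
      have hmem : ∀ k, p + t k • v ∈ U := fun k => hrU (by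
        rw [mem_closedBall, dist_self_add_left, norm_smul]
        have h1 : ‖t k‖ = r / (‖v‖ + 1) / (k + 1) := by
          simp only [t, Complex.norm_real, Real.norm_eq_abs]
          exact abs_of_nonneg (by positivity)
        rw [h1]
        have h2 : r / (‖v‖ + 1) / (k + 1) ≤ r / (‖v‖ + 1) := div_le_self (by positivity) (by simp)
        calc r / (‖v‖ + 1) / (k + 1) * ‖v‖ ≤ r / (‖v‖ + 1) * (‖v‖ + 1) :=
              mul_le_mul h2 (by linarith) (norm_nonneg _) (by positivity)
          _ = r := by field_simp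
          _ ≤ 2 * r := by linarith)
      refine aestronglyMeasurable_of_tendsto_ae atTop (f := fun k θ => (t k)⁻¹ • (Φ (p + t k • v) θ - Φ p θ))
        (fun k => ((((hΦc _ (hmem k)).sub (hΦc p hp)).const_smul ((t k)⁻¹) :
          Continuous fun θ => (t k)⁻¹ • (Φ (p + t k • v) θ - Φ p θ))).aestronglyMeasurable)
        (Eventually.of_forall fun θ => ?_)
      have h1 : HasDerivAt (fun z : ℂ => Φ (p + z • v) θ) (Φ' p θ v) 0 := by
        have hp' : HasFDerivAt (fun q => Φ q θ) (Φ' p θ) (p + (0 : ℂ) • v) := by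
          simpa using hdiff θ p (mem_ball_self hr)
        simpa [Function.comp_def] using
          hp'.comp_hasDerivAt (0 : ℂ) (((hasDerivAt_id (0 : ℂ)).smul_const v).const_add p)
      have h2 := (h1.tendsto_slope.comp ht)
      refine h2.congr fun k => ?_
      simp [slope_def_module]
    have heq : Φ' p = fun θ => ∑ i, (Φ' p θ (b i)) • (LinearMap.toContinuousLinearMap (b.coord i)) := by
      funext θ
      refine ContinuousLinearMap.ext fun v => ?_
      simp only [sum_apply, smul_apply, LinearMap.coe_toContinuousLinearMap', Module.Basis.coord_apply, smul_eq_mul]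
      conv_lhs => rw [← b.sum_repr v]
      rw [map_sum]
      exact Finset.sum_congr rfl fun i _ => by rw [map_smul, smul_eq_mul, mul_comm]
    rw [heq]
    exact Finset.aestronglyMeasurable_fun_sum _ fun i _ => (key (b i)).smul_const _
  have hev : ∀ᶠ q in 𝓝 p, q ∈ U := hU.mem_nhds hp
  exact (intervalIntegral.hasFDerivAt_integral_of_dominated_of_fderiv_le (F := Φ) (F' := Φ')
    (bound := fun _ => 2 * (ε * M) / r) (ball_mem_nhds p hr)
    (hev.mono fun q hq => (hΦc q hq).aestronglyMeasurable)
    ((hΦc p hp).intervalIntegrable _ _) hmeas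
    (Eventually.of_forall fun θ _ q hq => hbound θ q hq) intervalIntegrable_const
    (Eventually.of_forall fun θ _ q hq => hdiff θ q hq)).differentiableAt

end Groth.Agent.AnStalk
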