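import Groth.Prelude.Def_AnHol
import Groth.Agent.AnPts.Basic
import Groth.Agent.AnPts.Rational

/-!
# Coordinates on an affine neighbourhood of a complex point
-/

set_option autoImplicit false

open AlgebraicGeometry CategoryTheory TopologicalSpace Topology Filter
open An

namespace Groth.Agent.AnStalk

variable {X : Scheme.{0}} [X.Over SC]

/-- Constants as sections over an open. -/
noncomputable def str (W : X.Opens) : ℂ →+* Γ(X, W) :=
  (X.presheaf.map (homOfLE (le_top : W ≤ ⊤)).op).hom.comp (strHom X)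

theorem ev_str (y : Pts X) (W : X.Opens) (h : y.pt ∈ W) (c : ℂ) : y.ev W h (str W c) = c := by
  change y.ev W h (X.presheaf.map (homOfLE (le_top : W ≤ ⊤)).op (strHom X c)) = c
  rw [AnPts.ev_res]
  exact AnPts.ev_strHom y c

/-- A finite set of generators of the functions on an affine open neighbourhood. -/
structure Chart (x : Pts X) where
  W : X.Opens
  hW : IsAffineOpen W
  hx : x.pt ∈ W
  n : ℕ
  s : Fin n → Γ(X, W)
  surj : Function.Surjective (MvPolynomial.eval₂Hom (str W) s)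
  point : ∀ φ : Γ(X, W) →+* ℂ, (∀ c, φ (str W c) = c) → ∃ (y : Pts X) (h : y.pt ∈ W), ∀ f, y.ev W h f = φ f

theorem exists_chart [LocallyOfFiniteType (X ↘ SC)] (x : Pts X) : Nonempty (Chart x) := by
  obtain ⟨_, ⟨(W : X.Opens), hW, rfl⟩, hxW, -⟩ :=
    X.isBasis_affineOpens.exists_subset_of_mem_open (Set.mem_univ x.pt) isOpen_univ
  haveI : IsAffine (W : Scheme) := hW
  letI := AnPts.opensOver W
  haveI : W.ι.IsOver SC := ⟨rfl⟩
  haveI : LocallyOfFiniteType ((W : Scheme) ↘ SC) := inferInstanceAs (LocallyOfFiniteType (W.ι ≫ X ↘ SC))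
  let ψ : Γ(X, W) →+* Γ((W : Scheme), ⊤) := (W.ι.appLE W ⊤ W.ι_preimage_self.ge).hom
  have hψ : Function.Bijective ψ := by
    have : IsIso (W.ι.appLE W ⊤ W.ι_preimage_self.ge) := by
      rw [Scheme.Opens.ι_appLE]
      refine ⟨X.presheaf.map (homOfLE W.ι_image_top.ge).op, ?_, ?_⟩ <;>
        exact ((X.presheaf.map_comp _ _).symm.trans (congrArg _ (Subsingleton.elim _ _))).trans (X.presheaf.map_id _)
    exact ConcreteCategory.bijective_of_isIso (W.ι.appLE W ⊤ W.ι_preimage_self.ge)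
  have hψc : ∀ c, ψ (str W c) = strHom (W : Scheme) c := fun c => by
    change (X.presheaf.map (homOfLE (le_top : W ≤ ⊤)).op ≫ W.ι.appLE W ⊤ W.ι_preimage_self.ge) (strHom X c) =
      (W.ι ≫ X ↘ SC).appTop ((Scheme.ΓSpecIso (CommRingCat.of ℂ)).inv c)
    rw [Scheme.Hom.map_appLE, Scheme.Hom.comp_appTop, CommRingCat.comp_apply]
    rw [Scheme.Hom.appTop, Scheme.Hom.app_eq_appLE]
    rfl
  obtain ⟨n, s', hs'⟩ := AnPts.exists_generators (W : Scheme)
  choose s hs using fun i => hψ.2 (s' i)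
  refine ⟨⟨W, hW, hxW, n, s, fun f => ?_, fun φ hφ => ?_⟩⟩
  · obtain ⟨Q, hQ⟩ := hs' (ψ f)
    refine ⟨Q, hψ.1 ?_⟩
    rw [← hQ]
    exact RingHom.congr_fun (MvPolynomial.ringHom_ext (f := ψ.comp (MvPolynomial.eval₂Hom (str W) s))
      (g := MvPolynomial.eval₂Hom (strHom (W : Scheme)) s') (fun c => by simp [hψc]) (fun i => by simp [hs])) Q
  · let e := RingEquiv.ofBijective ψ hψ
    obtain ⟨z, hz⟩ := AnPts.exists_of_hom (X := (W : Scheme)) (φ.comp e.symm.toRingHom) fun c => by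
      rw [← hψc]
      exact (congrArg φ (e.symm_apply_apply _)).trans (hφ c)
    have hmem : (Pts.map W.ι z).pt ∈ W := by
      rw [Pts.pt_map]; exact z.pt.2
    refine ⟨Pts.map W.ι z, hmem, fun f => ?_⟩
    rw [Pts.ev_map, ← AnPts.ev_res z (U := W.ι ⁻¹ᵁ W) (V := ⊤) W.ι_preimage_self.ge (Opens.mem_top _)]
    refine (hz (ψ f)).trans ?_
    exact congrArg φ (e.symm_apply_apply f)

namespace Chart

variable {x : Pts X} (c : Chart x)

open Classical in
/-- The coordinates (zero off the chart). -/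
noncomputable def coord (y : Pts X) : Fin c.n → ℂ :=
  if h : y.pt ∈ c.W then fun i => y.ev c.W h (c.s i) else 0

theorem coord_of_mem {y : Pts X} (h : y.pt ∈ c.W) : c.coord y = fun i => y.ev c.W h (c.s i) := dif_pos h

theorem ev_poly {y : Pts X} (h : y.pt ∈ c.W) (Q : MvPolynomial (Fin c.n) ℂ) :
    y.ev c.W h (MvPolynomial.eval₂Hom (str c.W) c.s Q) = MvPolynomial.eval (c.coord y) Q :=
  RingHom.congr_fun (MvPolynomial.ringHom_ext
    (f := (AnPts.evHom y c.W h).comp (MvPolynomial.eval₂Hom (str c.W) c.s))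
    (g := MvPolynomial.eval (c.coord y))
    (fun a => by simpa [AnPts.evHom_apply] using ev_str y c.W h a)
    (fun i => by simp [AnPts.evHom_apply, c.coord_of_mem h])) Q

theorem exists_poly (f : Γ(X, c.W)) :
    ∃ Q, ∀ (y : Pts X) (h : y.pt ∈ c.W), y.ev c.W h f = MvPolynomial.eval (c.coord y) Q := by
  obtain ⟨Q, rfl⟩ := c.surj f
  exact ⟨Q, fun y h => c.ev_poly h Q⟩

theorem eventually_mem : ∀ᶠ y in 𝓝 x, y.pt ∈ c.W := (Pts.isOpen_preimage_pt c.W).mem_nhds c.hx

theorem isOpen_preimage {V : Set (Fin c.n → ℂ)} (hV : IsOpen V) :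
    IsOpen {y : Pts X | y.pt ∈ c.W ∧ c.coord y ∈ V} := by
  have hcont : Continuous fun z : ↥(Pts.pt ⁻¹' (c.W : Set X) : Set (Pts X)) => c.coord z.1 := by
    simp only [funext fun z : ↥(Pts.pt ⁻¹' (c.W : Set X) : Set (Pts X)) => c.coord_of_mem z.2]
    exact continuous_pi fun i => AnPts.continuous_ev c.W (c.s i)
  have h2 := (Pts.isOpen_preimage_pt c.W).isOpenMap_subtype_val _ (hV.preimage hcont)
  convert! h2 using 1
  ext y
  exact ⟨fun ⟨hy, h⟩ => ⟨⟨y, hy⟩, h, rfl⟩, fun ⟨z, hz, hzy⟩ => hzy ▸ ⟨z.2, hz⟩⟩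

theorem tendsto_coord : Tendsto c.coord (𝓝 x) (𝓝 (c.coord x)) := by
  rw [(nhds_basis_opens (c.coord x)).tendsto_right_iff]
  rintro V ⟨hxV, hV⟩
  filter_upwards [(c.isOpen_preimage hV).mem_nhds ⟨c.hx, hxV⟩] with y hy using hy.2

theorem tendsto_sub : Tendsto (fun y => c.coord y - c.coord x) (𝓝 x) (𝓝 0) := by
  simpa using c.tendsto_coord.sub_const (c.coord x)

theorem eventually_coord {P : Pts X → Prop} (h : ∀ᶠ y in 𝓝 x, P y) :
    ∀ᶠ v in 𝓝 (c.coord x), ∀ y : Pts X, y.pt ∈ c.W → c.coord y = v → P y := by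
  have key : comap c.coord (𝓝 (c.coord x)) ⊓ 𝓟 {y : Pts X | y.pt ∈ c.W} ≤ 𝓝 x := by
    rw [nhds_generateFrom]
    refine le_iInf₂ fun S ⟨hxS, U, f, V, hV, hS⟩ => ?_
    subst hS
    obtain ⟨b, b', m, hb, hbV, hsub⟩ := AnPts.local_affine c.hW hxS c.hx
    obtain ⟨Qb, hQb⟩ := c.exists_poly b
    obtain ⟨Qc, hQc⟩ := c.exists_poly b'
    rw [le_principal_iff, mem_inf_principal]
    refine ⟨{v | MvPolynomial.eval v Qb ≠ 0 ∧ MvPolynomial.eval v Qc / MvPolynomial.eval v Qb ^ m ∈ V}, ?_, ?_⟩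
    · rw [hQb] at hb
      rw [hQc, hQb] at hbV
      have hcA : ContinuousAt (fun v => MvPolynomial.eval v Qc / MvPolynomial.eval v Qb ^ m) (c.coord x) :=
        ((MvPolynomial.continuous_eval Qc).continuousAt).div (((MvPolynomial.continuous_eval Qb).continuousAt).pow m)
          (pow_ne_zero m hb)
      exact ((MvPolynomial.continuous_eval Qb).continuousAt.eventually_ne hb).and (hcA.eventually_mem (hV.mem_nhds hbV))
    · rintro y ⟨h1, h2⟩ hy
      refine hsub y hy ?_ ?_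
      · rw [hQb]; exact h1
      · rw [hQc, hQb]; exact h2
  have h2 : ∀ᶠ y in comap c.coord (𝓝 (c.coord x)) ⊓ 𝓟 {y : Pts X | y.pt ∈ c.W}, P y := h.filter_mono key
  rw [eventually_inf_principal, eventually_comap] at h2
  exact h2.mono fun v hv y hy hyv => hv y hyv hy

end Chart

end Groth.Agent.AnStalk
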