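import Mathlib.Analysis.Calculus.FDeriv.Comp
import Mathlib.Analysis.Calculus.FDeriv.Mul
import Mathlib.Analysis.Calculus.FDeriv.Equiv
import Mathlib.Analysis.Calculus.Deriv.Inv
import Mathlib.Analysis.Complex.Basic
import Mathlib.Order.Filter.Germ.Basic
import Mathlib.Topology.Germ
import Mathlib.RingTheory.LocalRing.MaximalIdeal.Basic

/-!
# The ring of germs of holomorphic functions at the origin of a complex normed space
-/

set_option autoImplicit false

open Filter Topology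

namespace Groth.Agent.AnStalk

variable {E F G : Type*} [NormedAddCommGroup E] [NormedSpace ℂ E] [NormedAddCommGroup F] [NormedSpace ℂ F]
  [NormedAddCommGroup G] [NormedSpace ℂ G]

/-- Germs at `0` of functions differentiable near `0`. -/
noncomputable def hol (E : Type*) [NormedAddCommGroup E] [NormedSpace ℂ E] : Subring (Germ (𝓝 (0 : E)) ℂ) where
  carrier := {g | ∃ f : E → ℂ, (f : Germ (𝓝 (0 : E)) ℂ) = g ∧ ∀ᶠ z in 𝓝 0, DifferentiableAt ℂ f z}
  zero_mem' := ⟨fun _ => 0, rfl, .of_forall fun _ => differentiableAt_const _⟩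
  one_mem' := ⟨fun _ => 1, rfl, .of_forall fun _ => differentiableAt_const _⟩
  add_mem' := by
    rintro _ _ ⟨f, rfl, hf⟩ ⟨g, rfl, hg⟩
    exact ⟨f + g, rfl, (hf.and hg).mono fun z h => h.1.add h.2⟩
  mul_mem' := by
    rintro _ _ ⟨f, rfl, hf⟩ ⟨g, rfl, hg⟩
    exact ⟨f * g, rfl, (hf.and hg).mono fun z h => h.1.mul h.2⟩
  neg_mem' := by
    rintro _ ⟨f, rfl, hf⟩
    exact ⟨-f, rfl, hf.mono fun z h => h.neg⟩

namespace hol

/-- The germ of a function differentiable near `0`. -/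
noncomputable def mk (f : E → ℂ) (hf : ∀ᶠ z in 𝓝 0, DifferentiableAt ℂ f z) : hol E := ⟨↑f, f, rfl, hf⟩

theorem mk_eq_mk {f g : E → ℂ} {hf hg} : mk f hf = mk g hg ↔ f =ᶠ[𝓝 0] g := by
  exact Subtype.ext_iff.trans Germ.coe_eq

theorem exists_mk (g : hol E) : ∃ (f : E → ℂ) (hf : ∀ᶠ z in 𝓝 0, DifferentiableAt ℂ f z), g = mk f hf := by
  obtain ⟨f, hf, hd⟩ := g.2
  exact ⟨f, hd, Subtype.ext hf.symm⟩

theorem mk_add {f g : E → ℂ} {hf hg} :
    mk f hf + mk g hg = mk (f + g) ((hf.and hg).mono fun _ h => h.1.add h.2) := rfl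

theorem mk_mul {f g : E → ℂ} {hf hg} :
    mk f hf * mk g hg = mk (f * g) ((hf.and hg).mono fun _ h => h.1.mul h.2) := rfl

theorem mk_congr {f g : E → ℂ} (hf : ∀ᶠ z in 𝓝 0, DifferentiableAt ℂ f z)
    (hg : ∀ᶠ z in 𝓝 0, DifferentiableAt ℂ g z) (h : ∀ᶠ z in 𝓝 0, f z = g z) : mk f hf = mk g hg :=
  mk_eq_mk.2 h

/-- Evaluation at `0`. -/
noncomputable def val : hol E →+* ℂ where
  toFun g := Germ.value g.1
  map_one' := rfl
  map_zero' := rfl
  map_mul' a b := by obtain ⟨f, hf, rfl⟩ := exists_mk a; obtain ⟨g, hg, rfl⟩ := exists_mk b; rfl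
  map_add' a b := by obtain ⟨f, hf, rfl⟩ := exists_mk a; obtain ⟨g, hg, rfl⟩ := exists_mk b; rfl

@[simp] theorem val_mk {f : E → ℂ} {hf} : val (mk f hf) = f 0 := rfl

theorem isUnit_iff (g : hol E) : IsUnit g ↔ val g ≠ 0 := by
  refine ⟨fun h => (h.map val).ne_zero, fun h => ?_⟩
  obtain ⟨f, hf, rfl⟩ := exists_mk g
  have hne : ∀ᶠ z in 𝓝 (0 : E), f z ≠ 0 := hf.self_of_nhds.continuousAt.eventually_ne h
  refine IsUnit.of_mul_eq_one (mk (fun z => (f z)⁻¹) ((hf.and hne).mono fun z hz => hz.1.inv hz.2)) ?_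
  rw [mk_mul]
  exact Subtype.ext (Germ.coe_eq.2 (hne.mono fun z hz => mul_inv_cancel₀ hz))

instance : Nontrivial (hol E) := ⟨⟨0, 1, fun h => zero_ne_one (α := ℂ) (by simpa using congrArg val h)⟩⟩

instance isLocalRing : IsLocalRing (hol E) :=
  IsLocalRing.of_nonunits_add fun a b ha hb => by
    rw [mem_nonunits_iff, isUnit_iff, not_not] at *
    rw [map_add, ha, hb, add_zero]

theorem mem_maximalIdeal_iff (g : hol E) : g ∈ IsLocalRing.maximalIdeal (hol E) ↔ val g = 0 := by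
  rw [IsLocalRing.mem_maximalIdeal, mem_nonunits_iff, isUnit_iff, not_not]

/-- Constants. -/
noncomputable def const : ℂ →+* hol E where
  toFun c := mk (fun _ => c) (.of_forall fun _ => differentiableAt_const _)
  map_one' := rfl
  map_zero' := rfl
  map_mul' _ _ := rfl
  map_add' _ _ := rfl

@[simp] theorem val_const (c : ℂ) : val (const c : hol E) = c := rfl

theorem tendsto_of {L : E → F} (h0 : L 0 = 0) (hL : ∀ᶠ z in 𝓝 0, DifferentiableAt ℂ L z) :
    Tendsto L (𝓝 0) (𝓝 0) := by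
  simpa [h0] using (hL.self_of_nhds.continuousAt).tendsto

/-- Composition with a map differentiable near `0` fixing `0`. -/
noncomputable def comp (L : E → F) (h0 : L 0 = 0) (hL : ∀ᶠ z in 𝓝 0, DifferentiableAt ℂ L z) :
    hol F →+* hol E where
  toFun g := ⟨g.1.compTendsto L (tendsto_of h0 hL), by
    obtain ⟨f, hf, rfl⟩ := exists_mk g
    exact ⟨f ∘ L, rfl, (hL.and ((tendsto_of h0 hL).eventually hf)).mono fun z hz => hz.2.comp z hz.1⟩⟩
  map_one' := rfl
  map_zero' := rfl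
  map_mul' a b := by obtain ⟨f, hf, rfl⟩ := exists_mk a; obtain ⟨g, hg, rfl⟩ := exists_mk b; rfl
  map_add' a b := by obtain ⟨f, hf, rfl⟩ := exists_mk a; obtain ⟨g, hg, rfl⟩ := exists_mk b; rfl

theorem comp_mk {L : E → F} {h0 : L 0 = 0} {hL} {f : F → ℂ} {hf}
    (h : ∀ᶠ z in 𝓝 0, DifferentiableAt ℂ (f ∘ L) z) : comp L h0 hL (mk f hf) = mk (f ∘ L) h := rfl

/-- Composition with a continuous linear map. -/
noncomputable abbrev lcomp (L : E →L[ℂ] F) : hol F →+* hol E :=
  comp L (map_zero L) (.of_forall fun _ => L.differentiableAt)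

/-- A continuous linear equivalence identifies the rings of germs. -/
noncomputable def equiv (L : E ≃L[ℂ] F) : hol F ≃+* hol E :=
  RingEquiv.ofRingHom (lcomp L.toContinuousLinearMap) (lcomp L.symm.toContinuousLinearMap)
    (RingHom.ext fun g => by
      obtain ⟨f, hf, rfl⟩ := exists_mk g
      exact Subtype.ext (Germ.coe_eq.2 (.of_forall fun z => congrArg f (L.symm_apply_apply z))))
    (RingHom.ext fun g => by
      obtain ⟨f, hf, rfl⟩ := exists_mk g
      exact Subtype.ext (Germ.coe_eq.2 (.of_forall fun z => congrArg f (L.apply_symm_apply z))))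

/-- The germ of a continuous linear functional. -/
noncomputable def lin (l : E →L[ℂ] ℂ) : hol E := mk l (.of_forall fun _ => l.differentiableAt)

theorem lcomp_lin (L : E →L[ℂ] F) (l : F →L[ℂ] ℂ) : lcomp L (lin l) = lin (l.comp L) := rfl

theorem val_lin (l : E →L[ℂ] ℂ) : val (lin l) = 0 := map_zero l

end hol

end Groth.Agent.AnStalk
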