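import Groth.Agent.AnStalk.Cauchy
import Mathlib.Analysis.Calculus.InverseFunctionTheorem.FDeriv
import Mathlib.Analysis.Normed.Operator.BoundedLinearMaps

/-!
# A holomorphic implicit function theorem
-/

set_option autoImplicit false

open Metric Filter Topology Set

namespace Groth.Agent.AnStalk

/-- Zeros of `Ψ` near `0` lie on the graph of a function differentiable near `0`. -/
theorem exists_implicit {E F : Type*} [NormedAddCommGroup E] [NormedSpace ℂ E] [FiniteDimensional ℂ E]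
    [NormedAddCommGroup F] [NormedSpace ℂ F] [FiniteDimensional ℂ F] {Ψ : E × F → F}
    (hd : ∀ᶠ p in 𝓝 0, DifferentiableAt ℂ Ψ p) (h0 : Ψ 0 = 0)
    (hinj : ∀ v, fderiv ℂ Ψ 0 (0, v) = 0 → v = 0) :
    ∃ G : E → F, G 0 = 0 ∧ (∀ᶠ z in 𝓝 0, DifferentiableAt ℂ G z) ∧
      ∀ᶠ p in 𝓝 0, Ψ p = 0 → p.2 = G p.1 := by
  haveI : CompleteSpace E := FiniteDimensional.complete ℂ E
  haveI : CompleteSpace F := FiniteDimensional.complete ℂ F
  let Ψ' : E × F → E × F := fun p => (p.1, Ψ p)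
  have hΨ'd : ∀ᶠ p in 𝓝 (0 : E × F), DifferentiableAt ℂ Ψ' p :=
    hd.mono fun p hp => differentiableAt_fst.prodMk hp
  let D := fderiv ℂ Ψ' (0 : E × F)
  have hD : D = (ContinuousLinearMap.fst ℂ E F).prod (fderiv ℂ Ψ 0) :=
    (hasFDerivAt_fst.prodMk hd.self_of_nhds.hasFDerivAt).fderiv
  have hDinj : Function.Injective D := by
    rw [injective_iff_map_eq_zero]
    rintro ⟨z, v⟩ h
    rw [hD] at h
    simp only [ContinuousLinearMap.prod_apply, ContinuousLinearMap.coe_fst', Prod.mk_eq_zero] at h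
    obtain ⟨rfl, h⟩ := h
    exact Prod.ext rfl (hinj v h)
  let De : (E × F) ≃L[ℂ] (E × F) :=
    (LinearEquiv.ofInjectiveEndo (D : E × F →ₗ[ℂ] E × F) hDinj).toContinuousLinearEquiv
  have hDe : (De : E × F →L[ℂ] E × F) = D := ContinuousLinearMap.ext fun _ => rfl
  have hs : HasStrictFDerivAt Ψ' (De : E × F →L[ℂ] E × F) 0 := hDe ▸ hasStrictFDerivAt_of_eventually hΨ'd
  let Φ := hs.toOpenPartialHomeomorph Ψ'
  have hΦ : ⇑Φ = Ψ' := hs.toOpenPartialHomeomorph_coe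
  have h0' : Ψ' 0 = 0 := Prod.ext rfl h0
  have hsrc : (0 : E × F) ∈ Φ.source := hs.mem_toOpenPartialHomeomorph_source
  have htgt : (0 : E × F) ∈ Φ.target := h0' ▸ hs.image_mem_toOpenPartialHomeomorph_target
  have hsym0 : Φ.symm 0 = 0 := by
    have := Φ.left_inv hsrc
    rwa [hΦ, h0'] at this
  have hsymt : Tendsto Φ.symm (𝓝 0) (𝓝 0) := by
    have h : Tendsto Φ.symm (𝓝 0) (𝓝 (Φ.symm 0)) := Φ.symm.continuousAt htgt
    rwa [hsym0] at h
  have hinv : ∀ᶠ p in 𝓝 (0 : E × F), fderiv ℂ Ψ' p ∈ Set.range ((↑) : ((E × F) ≃L[ℂ] (E × F)) → _) :=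
    (continuousAt_fderiv hΨ'd).eventually_mem (ContinuousLinearEquiv.isOpen.mem_nhds ⟨De, hDe⟩)
  have hsymd : ∀ᶠ t in 𝓝 (0 : E × F), DifferentiableAt ℂ Φ.symm t := by
    filter_upwards [Φ.open_target.mem_nhds htgt, hsymt.eventually hinv, hsymt.eventually hΨ'd] with t ht ⟨e, he⟩ hd'
    refine (Φ.hasFDerivAt_symm (f' := e) ht ?_).differentiableAt
    rw [hΦ, he]
    exact hd'.hasFDerivAt
  have hin : Tendsto (fun z : E => (z, (0 : F))) (𝓝 0) (𝓝 0) :=
    (continuous_id.prodMk continuous_const).tendsto' 0 0 rfl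
  refine ⟨fun z => (Φ.symm (z, 0)).2, ?_, (hin.eventually hsymd).mono fun z hz =>
    differentiableAt_snd.comp z (hz.comp z (show DifferentiableAt ℂ (fun z : E => (z, (0 : F))) z by fun_prop)), ?_⟩
  · simp only [Prod.mk_zero_zero, hsym0]; rfl
  · filter_upwards [Φ.open_source.mem_nhds hsrc] with p hp hp0
    have h := Φ.left_inv hp
    rw [hΦ] at h
    simp only [Ψ', hp0] at h
    exact (congrArg Prod.snd h).symm

end Groth.Agent.AnStalk
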