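import Groth.Agent.AnPts.Algebra
import Groth.Agent.AnPts.Rational
import Mathlib.RingTheory.Trace.Basic
import Mathlib.RingTheory.Filtration
import Mathlib.RingTheory.MvPolynomial.Ideal
import Mathlib.RingTheory.MvPolynomial.Homogeneous
import Mathlib.RingTheory.Localization.FractionRing
import Mathlib.RingTheory.Adjoin.FGBaseChange
import Mathlib.RingTheory.IntegralClosure.IsIntegralClosure.Basic

/-!
# Functions vanishing to high order at a complex point lie in high powers of its maximal ideal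
-/

set_option autoImplicit false

open Filter Topology Asymptotics

namespace Groth.Agent.AnStalk

theorem eval_smul_of_isHomogeneous {d j : ℕ} {φ : MvPolynomial (Fin d) ℂ} (hφ : φ.IsHomogeneous j)
    (c : ℂ) (v : Fin d → ℂ) : MvPolynomial.eval (c • v) φ = c ^ j * MvPolynomial.eval v φ := by
  rw [MvPolynomial.eval_eq, MvPolynomial.eval_eq, Finset.mul_sum]
  refine Finset.sum_congr rfl fun s hs => ?_
  simp only [Pi.smul_apply, smul_eq_mul, mul_pow]
  rw [Finset.prod_mul_distrib, Finset.prod_pow_eq_pow_sum, ← hφ.degree_eq_sum_deg_support hs]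
  ring

theorem coeff_eq_zero_of_bound {p : Polynomial ℂ} {N : ℕ} {C : ℝ}
    (h : ∀ᶠ c in 𝓝 (0 : ℂ), ‖p.eval c‖ ≤ C * ‖c‖ ^ N) : ∀ j < N, p.coeff j = 0 := by
  intro j
  induction j using Nat.strong_induction_on with
  | _ j ih =>
    intro hj
    obtain ⟨q, hq⟩ : Polynomial.X ^ j ∣ p := Polynomial.X_pow_dvd_iff.2 fun i hi => ih i hi (hi.trans hj)
    rw [hq, Polynomial.coeff_X_pow_mul', if_pos le_rfl, Nat.sub_self, Polynomial.coeff_zero_eq_eval_zero]
    have h1 : ∀ᶠ c in 𝓝[≠] (0 : ℂ), ‖q.eval c‖ ≤ C * ‖c‖ ^ (N - j) := by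
      filter_upwards [mem_nhdsWithin_of_mem_nhds h, self_mem_nhdsWithin] with c hc (hne : c ≠ 0)
      simp only [Set.mem_setOf_eq, hq, Polynomial.eval_mul, Polynomial.eval_pow, Polynomial.eval_X, norm_mul, norm_pow] at hc
      rw [show ‖c‖ ^ N = ‖c‖ ^ (N - j) * ‖c‖ ^ j by rw [← pow_add, Nat.sub_add_cancel hj.le]] at hc
      refine le_of_mul_le_mul_right ?_ (pow_pos (norm_pos_iff.2 hne) j)
      linarith
    have h2 : Tendsto (fun c => ‖q.eval c‖) (𝓝[≠] (0 : ℂ)) (𝓝 ‖q.eval 0‖) :=
      ((q.continuous.norm).tendsto 0).mono_left nhdsWithin_le_nhds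
    have h3 : Tendsto (fun c : ℂ => C * ‖c‖ ^ (N - j)) (𝓝[≠] (0 : ℂ)) (𝓝 0) := by
      refine Tendsto.mono_left ?_ nhdsWithin_le_nhds
      exact (by fun_prop : Continuous fun c : ℂ => C * ‖c‖ ^ (N - j)).tendsto' 0 0 (by
        rw [norm_zero, zero_pow (by omega), mul_zero])
    exact norm_le_zero_iff.1 (le_of_tendsto_of_tendsto h2 h3 h1)

theorem mem_pow_idealOfVars_of_bound {d N : ℕ} {P : MvPolynomial (Fin d) ℂ} {C : ℝ}
    (h : ∀ᶠ z in 𝓝 (0 : Fin d → ℂ), ‖MvPolynomial.eval z P‖ ≤ C * ‖z‖ ^ N) :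
    P ∈ MvPolynomial.idealOfVars (Fin d) ℂ ^ N := by
  rw [MvPolynomial.mem_pow_idealOfVars_iff']
  intro e he
  have hv : ∀ v : Fin d → ℂ, MvPolynomial.eval v (MvPolynomial.homogeneousComponent e.degree P) = 0 := by
    intro v
    let p : Polynomial ℂ := ∑ j ∈ Finset.range (P.totalDegree + 1),
      Polynomial.C (MvPolynomial.eval v (MvPolynomial.homogeneousComponent j P)) * Polynomial.X ^ j
    have hp : ∀ c : ℂ, p.eval c = MvPolynomial.eval (c • v) P := fun c => by
      conv_rhs => rw [← MvPolynomial.sum_homogeneousComponent P, map_sum]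
      simp only [p, Polynomial.eval_finset_sum, Polynomial.eval_mul, Polynomial.eval_C, Polynomial.eval_pow, Polynomial.eval_X]
      exact Finset.sum_congr rfl fun j _ => by
        rw [eval_smul_of_isHomogeneous (MvPolynomial.homogeneousComponent_isHomogeneous j P), mul_comm]
    have hb : ∀ᶠ c in 𝓝 (0 : ℂ), ‖p.eval c‖ ≤ C * ‖v‖ ^ N * ‖c‖ ^ N := by
      filter_upwards [((by fun_prop : Continuous fun c : ℂ => c • v).tendsto' 0 0 (zero_smul _ _)).eventually h] with c hc
      rw [hp]
      refine hc.trans (le_of_eq ?_)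
      rw [norm_smul, mul_pow]; ring
    have h1 := coeff_eq_zero_of_bound hb e.degree he
    simp only [p, Polynomial.finset_sum_coeff, Polynomial.coeff_C_mul, Polynomial.coeff_X_pow, mul_ite, mul_one,
      mul_zero, Finset.sum_ite_eq, Finset.mem_range] at h1
    by_cases hle : e.degree < P.totalDegree + 1
    · rwa [if_pos hle] at h1
    · rw [MvPolynomial.homogeneousComponent_eq_zero _ _ (by omega), map_zero]
  have h2 : MvPolynomial.homogeneousComponent e.degree P = 0 :=
    MvPolynomial.funext fun v => by rw [hv, map_zero]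
  have h3 := MvPolynomial.coeff_homogeneousComponent (n := e.degree) (φ := P) e
  rw [h2, if_pos rfl, MvPolynomial.coeff_zero] at h3
  exact h3.symm

/-- The coordinates of the point `y` in the generators `a`. -/
def crd {A : Type} [CommRing A] [Algebra ℂ A] {m : ℕ} (a : Fin m → A) (y : A →ₐ[ℂ] ℂ) : Fin m → ℂ := fun i => y (a i)

/-- `b` vanishes to order `M` at `x`. -/
def VanishesTo {A : Type} [CommRing A] [Algebra ℂ A] {m : ℕ} (a : Fin m → A) (x : A →ₐ[ℂ] ℂ) (b : A) (M : ℕ) : Prop :=
  ∃ C : ℝ, ∀ᶠ v in 𝓝 (crd a x), ∀ y : A →ₐ[ℂ] ℂ, crd a y = v → ‖y b‖ ≤ C * ‖v - crd a x‖ ^ M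

variable {A : Type} [CommRing A] [Algebra ℂ A]

theorem point_eq_eval {m : ℕ} (a : Fin m → A) (y : A →ₐ[ℂ] ℂ) (Q : MvPolynomial (Fin m) ℂ) :
    y (MvPolynomial.aeval a Q) = MvPolynomial.eval (crd a y) Q := by
  rw [← MvPolynomial.aeval_eq_eval]
  exact DFunLike.congr_fun (MvPolynomial.algHom_ext (f := y.comp (MvPolynomial.aeval a))
    (g := MvPolynomial.aeval (crd a y)) fun i => by simp [crd]) Q

theorem vanishesTo_key_domain [IsDomain A] [Algebra.FiniteType ℂ A] {m : ℕ} (a : Fin m → A)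
    (ha : Function.Surjective (MvPolynomial.aeval a : MvPolynomial (Fin m) ℂ →ₐ[ℂ] A)) (x : A →ₐ[ℂ] ℂ) (k : ℕ) :
    ∃ M, ∀ b, VanishesTo a x b M → ∃ s : A, x s ≠ 0 ∧ s * b ∈ (RingHom.ker x) ^ k := by
  classical
  obtain ⟨d, g₀, hg₀inj, hg₀fin⟩ := exists_finite_inj_algHom_of_fg ℂ A
  let R := MvPolynomial (Fin d) ℂ
  let c₀ : Fin d → ℂ := fun i => x (g₀ (MvPolynomial.X i))
  let sh : MvPolynomial (Fin d) ℂ →ₐ[ℂ] MvPolynomial (Fin d) ℂ := MvPolynomial.aeval fun i => MvPolynomial.X i - MvPolynomial.C (c₀ i)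
  let sh' : MvPolynomial (Fin d) ℂ →ₐ[ℂ] MvPolynomial (Fin d) ℂ := MvPolynomial.aeval fun i => MvPolynomial.X i + MvPolynomial.C (c₀ i)
  have hsh : sh.comp sh' = AlgHom.id ℂ (MvPolynomial (Fin d) ℂ) := MvPolynomial.algHom_ext fun i => by simp [sh, sh']
  have hsh' : sh'.comp sh = AlgHom.id ℂ (MvPolynomial (Fin d) ℂ) := MvPolynomial.algHom_ext fun i => by simp [sh, sh']
  let g : MvPolynomial (Fin d) ℂ →ₐ[ℂ] A := g₀.comp sh
  have hginj : Function.Injective g := hg₀inj.comp
    (Function.LeftInverse.injective (g := sh') fun r => DFunLike.congr_fun hsh' r)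
  have hgfin : g.Finite := hg₀fin.comp (AlgHom.Finite.of_surjective sh fun r => ⟨sh' r, DFunLike.congr_fun hsh r⟩)
  have hgx : ∀ i, x (g (MvPolynomial.X i)) = 0 := fun i => by simp [g, sh, c₀]
  letI : Algebra R A := g.toRingHom.toAlgebra
  haveI : IsScalarTower ℂ R A := IsScalarTower.of_algHom g
  haveI : Module.Finite R A := hgfin
  haveI : FaithfulSMul R A := (faithfulSMul_iff_algebraMap_injective R A).2 hginj
  haveI : Module.IsTorsionFree R A := Module.isTorsionFree_iff_faithfulSMul.2 inferInstance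
  haveI : IsIntegrallyClosed R := UniqueFactorizationMonoid.instIsIntegrallyClosed
  have hint : ∀ b : A, IsIntegral R b := fun b => IsIntegral.of_finite R b
  let zy : (A →ₐ[ℂ] ℂ) → (Fin d → ℂ) := fun y i => y (g (MvPolynomial.X i))
  have hzx : zy x = 0 := funext hgx
  have hev : ∀ (y : A →ₐ[ℂ] ℂ) (r : R), y (algebraMap R A r) = MvPolynomial.eval (zy y) r := by
    intro y r
    have h : y.comp g = MvPolynomial.aeval (zy y) := MvPolynomial.algHom_ext fun i => by simp [zy]
    rw [← MvPolynomial.aeval_eq_eval]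
    exact DFunLike.congr_fun h r
  have hroot : ∀ (y : A →ₐ[ℂ] ℂ) (b : A), ((minpoly R b).map (MvPolynomial.eval (zy y))).eval (y b) = 0 := by
    intro y b
    have h := congrArg y (minpoly.aeval R b)
    rw [map_zero, Polynomial.aeval_def] at h
    rw [show y (Polynomial.eval₂ (algebraMap R A) b (minpoly R b)) =
      Polynomial.eval₂ (y.toRingHom.comp (algebraMap R A)) (y b) (minpoly R b) from
        Polynomial.hom_eval₂ _ _ y.toRingHom b] at h
    rw [Polynomial.eval_map, show MvPolynomial.eval (zy y) = y.toRingHom.comp (algebraMap R A) from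
      RingHom.ext fun r => (hev y r).symm]
    exact h
  -- every root is attained
  have hlift : ∀ (b : A) (z : Fin d → ℂ) (c : ℂ), ((minpoly R b).map (MvPolynomial.eval z)).eval c = 0 →
      ∃ y : A →ₐ[ℂ] ℂ, zy y = z ∧ y b = c := by
    intro b z c hc
    let φ : Polynomial R →ₐ[ℂ] A := (Polynomial.aeval b : Polynomial R →ₐ[R] A).restrictScalars ℂ
    let ψ : Polynomial R →ₐ[ℂ] ℂ :=
      { toRingHom := (Polynomial.evalRingHom c).comp (Polynomial.mapRingHom (MvPolynomial.eval z))
        commutes' := fun r => by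
          simp [IsScalarTower.algebraMap_apply ℂ R (Polynomial R), Polynomial.algebraMap_apply, R] }
    obtain ⟨y, hy⟩ := AnPts.exists_point_lift φ
      (RingHom.IsIntegral.tower_top (Polynomial.C : R →+* Polynomial R) φ.toRingHom (by
        intro a'
        rw [show φ.toRingHom.comp Polynomial.C = algebraMap R A from RingHom.ext fun r => by simp [φ]]
        exact hint a')) ψ (fun h hh => by
        obtain ⟨q, rfl⟩ := minpoly.isIntegrallyClosed_dvd (hint b) (show Polynomial.aeval b h = 0 from hh)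
        change Polynomial.eval c ((minpoly R b * q).map (MvPolynomial.eval z)) = 0
        rw [Polynomial.map_mul, Polynomial.eval_mul, hc, zero_mul])
    refine ⟨y, funext fun i => ?_, ?_⟩
    · have := DFunLike.congr_fun hy (Polynomial.C (MvPolynomial.X i))
      simpa [φ, ψ, zy, RingHom.algebraMap_toAlgebra, MvPolynomial.eval_X, R] using this
    · have := DFunLike.congr_fun hy Polynomial.X
      simpa [φ, ψ] using this
  -- a bound on the coordinates over a neighbourhood of `0`
  let P : Fin m → Polynomial R := fun i => minpoly R (a i)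
  have hPm : ∀ i, (P i).Monic := fun i => minpoly.monic (hint (a i))
  have hlip : ∀ r : R, ∃ C : ℝ, 0 ≤ C ∧ ∀ᶠ z in 𝓝 (0 : Fin d → ℂ), ‖MvPolynomial.eval z r - MvPolynomial.eval 0 r‖ ≤ C * ‖z‖ := by
    intro r
    obtain ⟨C, hC0, hC⟩ := ((AnPts.differentiable_eval r).differentiableAt (x := 0)).hasFDerivAt.isBigO_sub.exists_nonneg
    exact ⟨C, hC0, hC.bound.mono fun z hz => by simpa using hz⟩
  have hcoord : ∀ i, ∃ C : ℝ, 0 ≤ C ∧ ∀ᶠ z in 𝓝 (0 : Fin d → ℂ), ∀ y, zy y = z → ∃ c : ℂ,
      ((P i).map (MvPolynomial.eval 0)).eval c = 0 ∧ ‖y (a i) - c‖ ^ (P i).natDegree ≤ C * ‖z‖ := by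
    intro i
    let B : (Fin d → ℂ) → ℝ := fun w => 1 + ∑ j ∈ Finset.range (P i).natDegree, ‖MvPolynomial.eval w ((P i).coeff j)‖
    have hBc : Continuous B := continuous_const.add (continuous_finsetSum _ fun j _ => (MvPolynomial.continuous_eval _).norm)
    choose C hC0 hC using fun j => hlip ((P i).coeff j)
    have hB0 : 0 ≤ B 0 + 1 := by positivity
    refine ⟨∑ j ∈ Finset.range (P i).natDegree, C j * (B 0 + 1) ^ j,
      Finset.sum_nonneg fun j _ => mul_nonneg (hC0 j) (pow_nonneg hB0 _), ?_⟩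
    filter_upwards [(Filter.eventually_all_finset (Finset.range (P i).natDegree)).2 fun j _ => hC j,
      (hBc.tendsto 0).eventually (gt_mem_nhds (lt_add_one (B 0)))] with z hz hzB y hy
    let p0 := (P i).map (MvPolynomial.eval 0)
    let pz := (P i).map (MvPolynomial.eval z)
    have hw : ‖y (a i)‖ ≤ B 0 + 1 := by
      have h1 := AnPts.norm_root_le pz ((hPm i).map _) (by simp only [pz]; rw [← hy]; exact hroot y (a i))
      simp only [pz, (hPm i).natDegree_map, Polynomial.coeff_map] at h1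
      exact h1.trans hzB.le
    have hval : ‖p0.eval (y (a i))‖ ≤ (∑ j ∈ Finset.range (P i).natDegree, C j * (B 0 + 1) ^ j) * ‖z‖ := by
      have h1 : p0.eval (y (a i)) = p0.eval (y (a i)) - pz.eval (y (a i)) := by
        rw [show pz.eval (y (a i)) = 0 by simp only [pz]; rw [← hy]; exact hroot y (a i), sub_zero]
      rw [h1, Polynomial.eval_eq_sum_range, Polynomial.eval_eq_sum_range]
      simp only [p0, pz, (hPm i).natDegree_map, Polynomial.coeff_map]
      rw [Finset.sum_range_succ, Finset.sum_range_succ, (hPm i).coeff_natDegree, map_one, map_one, add_sub_add_right_eq_sub,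
        ← Finset.sum_sub_distrib, Finset.sum_mul]
      refine (norm_sum_le _ _).trans (Finset.sum_le_sum fun j hj => ?_)
      rw [← sub_mul, norm_mul, norm_sub_rev, norm_pow, mul_right_comm]
      exact mul_le_mul (hz j hj) (pow_le_pow_left₀ (norm_nonneg _) hw j) (pow_nonneg (norm_nonneg _) _)
        (mul_nonneg (hC0 j) (norm_nonneg _))
    let q := p0.comp (Polynomial.X + Polynomial.C (y (a i)))
    obtain ⟨c, hc, hcle⟩ := AnPts.exists_root_norm_pow_le q (((hPm i).map _).comp_X_add_C _) (by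
      rw [Polynomial.natDegree_comp, Polynomial.natDegree_X_add_C, mul_one, (hPm i).natDegree_map]
      exact minpoly.natDegree_pos (hint (a i)))
    refine ⟨c + y (a i), by
      change Polynomial.eval (c + y (a i)) p0 = 0
      rw [Polynomial.eval_comp, Polynomial.eval_add, Polynomial.eval_X, Polynomial.eval_C] at hc
      exact hc, ?_⟩
    rw [Polynomial.natDegree_comp, Polynomial.natDegree_X_add_C, mul_one, (hPm i).natDegree_map] at hcle
    rw [show y (a i) - (c + y (a i)) = -c by ring, norm_neg]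
    refine hcle.trans (le_trans (le_of_eq ?_) hval)
    simp [q, Polynomial.eval_comp]
  choose C₁ hC₁0 hC₁ using hcoord
  let D : ℕ := 1 + ∑ i, (P i).natDegree
  have hD : D ≠ 0 := by omega
  let C₂ : ℝ := ∑ i, C₁ i
  have hC₂0 : 0 ≤ C₂ := Finset.sum_nonneg fun i _ => hC₁0 i
  let T : Finset (Fin m → ℂ) := Fintype.piFinset fun i => ((P i).map (MvPolynomial.eval 0)).roots.toFinset
  -- points over small `z` are close to the fibre over `0`
  have hfib : ∀ᶠ z in 𝓝 (0 : Fin d → ℂ), ∀ y, zy y = z →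
      ∃ p, zy p = 0 ∧ crd a p ∈ T ∧ ‖crd a y - crd a p‖ ^ D ≤ C₂ * ‖z‖ := by
    have hbad : ∀ c ∈ T, ∀ᶠ z in 𝓝 (0 : Fin d → ℂ), ∀ y, zy y = z → ‖crd a y - c‖ ^ D ≤ C₂ * ‖z‖ →
        ∃ p, zy p = 0 ∧ crd a p = c := by
      intro c _
      by_cases hc : ∃ p, zy p = 0 ∧ crd a p = c
      · exact .of_forall fun z y _ _ => hc
      push Not at hc
      obtain ⟨r, hr, hrbad⟩ : ∃ r > 0, ∀ y, ‖crd a y - c‖ < r → ‖zy y‖ < r → False := by
        by_contra hcon
        push Not at hcon
        have hclose : ∀ Q : MvPolynomial (Fin m) ℂ, ∀ S : (Fin d → ℂ) → ℂ, Continuous S →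
            (∀ y, y (MvPolynomial.aeval a Q) = S (zy y)) → MvPolynomial.eval c Q = S 0 := by
          intro Q S hS hQS
          by_contra hne
          obtain ⟨r, hr, hr'⟩ := Metric.eventually_nhds_iff_ball.1
            (((MvPolynomial.continuous_eval Q).comp continuous_fst).sub (hS.comp continuous_snd) |>.continuousAt
              (x := (c, (0 : Fin d → ℂ))) |>.eventually_ne (sub_ne_zero.2 hne))
          obtain ⟨y, h1, h2, -⟩ := hcon r hr
          refine hr' (crd a y, zy y) (by
            rw [Metric.mem_ball, dist_eq_norm, Prod.mk_sub_mk, sub_zero]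
            exact max_lt h1 h2) ?_
          change MvPolynomial.eval (crd a y) Q - S (zy y) = 0
          rw [← point_eq_eval, hQS, sub_self]
        have hker : RingHom.ker (MvPolynomial.aeval a : MvPolynomial (Fin m) ℂ →ₐ[ℂ] A).toRingHom ≤
            RingHom.ker (MvPolynomial.aeval c : MvPolynomial (Fin m) ℂ →ₐ[ℂ] ℂ).toRingHom := fun Q hQ => by
          change MvPolynomial.aeval c Q = 0
          rw [MvPolynomial.aeval_eq_eval]
          exact hclose Q (fun _ => 0) continuous_const fun y => by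
            rw [show MvPolynomial.aeval a Q = 0 from hQ, map_zero]
        let p : A →ₐ[ℂ] ℂ := AlgHom.liftOfSurjective (MvPolynomial.aeval a) ha (MvPolynomial.aeval c) hker
        have hp : ∀ Q, p (MvPolynomial.aeval a Q) = MvPolynomial.eval c Q := fun Q => by
          rw [← MvPolynomial.aeval_eq_eval]; exact AlgHom.liftOfSurjective_apply _ _ _ _ _
        refine hc p (funext fun i => ?_) (funext fun i => by simpa [crd] using hp (MvPolynomial.X i))
        obtain ⟨Q, hQ⟩ := ha (g (MvPolynomial.X i))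
        change p (g (MvPolynomial.X i)) = 0
        rw [← hQ, hp]
        exact hclose Q (fun z => z i) (continuous_apply i) fun y => by rw [hQ]
      filter_upwards [Metric.ball_mem_nhds (0 : Fin d → ℂ) hr,
        ((continuous_const.mul continuous_norm).tendsto' (0 : Fin d → ℂ) 0 (by simp : C₂ * ‖(0 : Fin d → ℂ)‖ = 0)).eventually
          (gt_mem_nhds (pow_pos hr D))] with z hz hz' y hy hyc
      exact (hrbad y (lt_of_pow_lt_pow_left₀ D hr.le (hyc.trans_lt hz')) (hy ▸ mem_ball_zero_iff.1 hz)).elim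
    filter_upwards [(Filter.eventually_all_finset T).2 hbad, Filter.eventually_all.2 hC₁,
      ((continuous_const.mul continuous_norm).tendsto' (0 : Fin d → ℂ) 0 (by simp : C₂ * ‖(0 : Fin d → ℂ)‖ = 0)).eventually
        (gt_mem_nhds one_pos)] with z hzT hzc hz1 y hy
    choose c hc hcle using fun i => hzc i y hy
    have hcT : c ∈ T := by
      simp only [T, Fintype.mem_piFinset, Multiset.mem_toFinset]
      exact fun i => (Polynomial.mem_roots ((hPm i).map _).ne_zero).2 (hc i)
    have hle : ‖crd a y - c‖ ^ D ≤ C₂ * ‖z‖ := by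
      rcases isEmpty_or_nonempty (Fin m) with h | h
      · rw [Subsingleton.elim (crd a y - c) 0, norm_zero, zero_pow hD]; positivity
      obtain ⟨i, -, hi⟩ := Finset.exists_max_image Finset.univ (fun i => ‖(crd a y - c) i‖) Finset.univ_nonempty
      have hn : ‖crd a y - c‖ ≤ ‖y (a i) - c i‖ := (pi_norm_le_iff_of_nonneg (norm_nonneg _)).2 fun j => hi j (Finset.mem_univ j)
      have h1 : ‖y (a i) - c i‖ ^ (P i).natDegree ≤ C₂ * ‖z‖ :=
        (hcle i).trans (mul_le_mul_of_nonneg_right (Finset.single_le_sum (fun j _ => hC₁0 j) (Finset.mem_univ i)) (norm_nonneg _))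
      have h2 : ‖y (a i) - c i‖ ≤ 1 :=
        (pow_le_one_iff_of_nonneg (norm_nonneg _) (minpoly.natDegree_pos (hint (a i))).ne').1 (h1.trans hz1.le)
      refine (pow_le_pow_left₀ (norm_nonneg _) hn D).trans (le_trans (pow_le_pow_of_le_one (norm_nonneg _) h2 ?_) h1)
      exact (Finset.single_le_sum (fun j _ => Nat.zero_le ((P j).natDegree)) (Finset.mem_univ i)).trans (Nat.le_add_left _ _)
    obtain ⟨p, hp0, hpc⟩ := hzT c hcT y hy hle
    exact ⟨p, hp0, hpc ▸ hcT, hpc ▸ hle⟩
  -- separating the other points of the fibre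
  obtain ⟨q, hqx, hq⟩ : ∃ q : A, x q ≠ 0 ∧ ∀ p, zy p = 0 → crd a p ∈ T → crd a p ≠ crd a x → p q = 0 := by
    have hq' : ∀ c : Fin m → ℂ, ∃ u : A, x u ≠ 0 ∧ ∀ p, crd a p = c → c ≠ crd a x → p u = 0 := by
      intro c
      by_cases hc : c = crd a x
      · exact ⟨1, by simp, fun p _ h => absurd hc h⟩
      obtain ⟨i, hi⟩ := Function.ne_iff.1 hc
      exact ⟨a i - algebraMap ℂ A (c i), by simpa [crd, sub_eq_zero] using Ne.symm hi,
        fun p hp _ => by simp [← hp, crd]⟩
    choose u hu hu' using hq'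
    refine ⟨∏ c ∈ T, u c, by rw [map_prod]; exact Finset.prod_ne_zero_iff.2 fun c _ => hu c, fun p _ hpT hpx => ?_⟩
    rw [map_prod]
    exact Finset.prod_eq_zero hpT (hu' _ p rfl hpx)
  -- the trace
  let K := FractionRing R
  let L := FractionRing A
  letI : Algebra K L := FractionRing.liftAlgebra R L
  haveI : FiniteDimensional K L := by
    let S := Algebra.adjoin K (Set.range fun i => algebraMap A L (a i))
    have hi : ∀ b : A, IsIntegral K (algebraMap A L b) := fun b =>
      (((hint b).map (IsScalarTower.toAlgHom R A L))).tower_top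
    haveI : Module.Finite K S := Module.Finite.iff_fg.2 (fg_adjoin_of_finite (Set.finite_range _) (by
      rintro _ ⟨i, rfl⟩; exact hi _))
    have hA : ∀ b : A, algebraMap A L b ∈ S := by
      intro b
      obtain ⟨Q, rfl⟩ := ha b
      induction Q using MvPolynomial.induction_on with
      | C c =>
        rw [MvPolynomial.aeval_C, IsScalarTower.algebraMap_apply ℂ R A, ← IsScalarTower.algebraMap_apply R A L,
          IsScalarTower.algebraMap_apply R K L]
        exact S.algebraMap_mem _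
      | add P Q hP hQ => rw [map_add, map_add]; exact add_mem hP hQ
      | mul_X P i hP =>
        rw [map_mul, map_mul, MvPolynomial.aeval_X]
        exact mul_mem hP (Algebra.subset_adjoin ⟨i, rfl⟩)
    have htop : S = ⊤ := by
      refine eq_top_iff.2 fun l _ => ?_
      obtain ⟨u, v, -, rfl⟩ := IsFractionRing.div_surjective (A := A) l
      rw [div_eq_mul_inv]
      exact mul_mem (hA u) (Subalgebra.inv_mem_of_algebraic S (x := ⟨_, hA v⟩) (hi v).isAlgebraic)
    exact Module.Finite.equiv (htop ▸ Subalgebra.topEquiv : S ≃ₐ[K] L).toLinearEquiv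
  have htr : ∀ C : A, Algebra.trace K L (algebraMap A L C) = algebraMap R K
      ((Module.finrank (IntermediateField.adjoin K {algebraMap A L C}) L : R) * -(minpoly R C).nextCoeff) := by
    intro C
    rw [trace_eq_finrank_mul_minpoly_nextCoeff, minpoly.isIntegrallyClosed_eq_field_fractions K L (hint C),
      Polynomial.nextCoeff_map (IsFractionRing.injective R K), map_mul, map_neg, map_natCast]
  let τ : A →ₗ[R] R := (LinearEquiv.ofInjective (Algebra.linearMap R K) (IsFractionRing.injective R K)).symm.toLinearMap.comp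
    (LinearMap.codRestrict (LinearMap.range (Algebra.linearMap R K))
      (((Algebra.trace K L).restrictScalars R).comp (IsScalarTower.toAlgHom R A L).toLinearMap)
      fun C => ⟨_, (htr C).symm⟩)
  have hτ : ∀ C, τ C = (Module.finrank (IntermediateField.adjoin K {algebraMap A L C}) L : R) * -(minpoly R C).nextCoeff := by
    intro C
    refine IsFractionRing.injective R K (Eq.trans ?_ (htr C))
    have h := LinearEquiv.apply_symm_apply (LinearEquiv.ofInjective (Algebra.linearMap R K) (IsFractionRing.injective R K))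
      (LinearMap.codRestrict (LinearMap.range (Algebra.linearMap R K))
        (((Algebra.trace K L).restrictScalars R).comp (IsScalarTower.toAlgHom R A L).toLinearMap) (fun C => ⟨_, (htr C).symm⟩) C)
    exact congrArg Subtype.val h
  obtain ⟨me, e, he⟩ := Module.Finite.exists_fin (R := R) (M := A)
  let Φ : A →ₗ[R] (Fin me → R) := LinearMap.pi fun j => τ.comp (LinearMap.mulRight R (e j))
  have hΦ : Function.Injective Φ := by
    rw [injective_iff_map_eq_zero]
    intro b hb
    by_contra hb0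
    have hall : ∀ c : A, τ (b * c) = 0 := by
      intro c
      have hc : c ∈ Submodule.span R (Set.range e) := he ▸ Submodule.mem_top
      induction hc using Submodule.span_induction with
      | mem c hc => obtain ⟨j, rfl⟩ := hc; exact congrFun hb j
      | zero => rw [mul_zero, map_zero]
      | add c c' _ _ h h' => rw [mul_add, map_add, h, h', add_zero]
      | smul r c _ h => rw [mul_smul_comm, map_smul, h, smul_zero]
    let μ := minpoly R b
    have h0 : μ.coeff 0 ≠ 0 := by
      intro h0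
      obtain ⟨q', hq'⟩ := Polynomial.X_dvd_iff.2 h0
      have hqm : q'.Monic := Polynomial.Monic.of_mul_monic_left Polynomial.monic_X (hq' ▸ minpoly.monic (hint b))
      have h2 := minpoly.aeval R b
      rw [show minpoly R b = Polynomial.X * q' from hq', map_mul, Polynomial.aeval_X, mul_eq_zero] at h2
      have h4 := Polynomial.natDegree_le_natDegree (minpoly.min R b hqm (h2.resolve_left hb0))
      rw [show minpoly R b = Polynomial.X * q' from hq', Polynomial.natDegree_X_mul hqm.ne_zero] at h4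
      omega
    have h1 : b * Polynomial.aeval b μ.divX = algebraMap R A (-μ.coeff 0) := by
      have h2 := congrArg (Polynomial.aeval b) μ.X_mul_divX_add
      rw [map_add, map_mul, Polynomial.aeval_X, Polynomial.aeval_C, minpoly.aeval] at h2
      rw [map_neg]
      exact eq_neg_of_add_eq_zero_left h2
    have h2 := congrArg (algebraMap R K) (hall (Polynomial.aeval b μ.divX))
    rw [h1, hτ, ← htr, ← IsScalarTower.algebraMap_apply R A L, IsScalarTower.algebraMap_apply R K L,
      Algebra.trace_algebraMap, map_zero, nsmul_eq_mul, mul_eq_zero] at h2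
    rcases h2 with h2 | h2
    · exact Module.finrank_pos.ne' (Nat.cast_eq_zero.1 h2)
    · rw [map_eq_zero_iff _ (IsFractionRing.injective R K), neg_eq_zero] at h2
      exact h0 h2
  obtain ⟨c₁, hAR⟩ := Ideal.exists_pow_inf_eq_pow_smul (MvPolynomial.idealOfVars (Fin d) ℂ) (LinearMap.range Φ)
  let N := k + c₁
  refine ⟨D * N, fun b ⟨Cb, hb⟩ => ⟨q ^ (D * N), by rw [map_pow]; exact pow_ne_zero _ hqx, ?_⟩⟩
  let b' := q ^ (D * N) * b
  -- estimates near the fibre
  have hest : ∀ c ∈ T, ∃ C' : ℝ, 0 ≤ C' ∧ ∀ᶠ v in 𝓝 c, ∀ p y, zy p = 0 → crd a p = c → crd a y = v →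
      ‖y b'‖ ≤ C' * ‖v - c‖ ^ (D * N) := by
    intro c hcT
    obtain ⟨Qb, hQb⟩ := ha b
    obtain ⟨Qq, hQq⟩ := ha q
    by_cases hc : c = crd a x
    · subst hc
      let Bq := ‖MvPolynomial.eval (crd a x) Qq‖ + 1
      refine ⟨Bq ^ (D * N) * max Cb 0, by positivity, ?_⟩
      filter_upwards [hb, ((MvPolynomial.continuous_eval Qq).norm.tendsto (crd a x)).eventually (gt_mem_nhds (lt_add_one _))]
        with v hv hvq p y _ _ hy
      rw [map_mul, map_pow, norm_mul, norm_pow, mul_assoc]
      refine mul_le_mul (pow_le_pow_left₀ (norm_nonneg _) ?_ _) ?_ (norm_nonneg _) (by positivity)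
      · rw [← hQq, point_eq_eval, hy]; exact hvq.le
      · exact (hv y hy).trans (mul_le_mul_of_nonneg_right (le_max_left _ _) (by positivity))
    · by_cases hp' : ∃ p, zy p = 0 ∧ crd a p = c
      · obtain ⟨p, hp0, hpc⟩ := hp'
        obtain ⟨Cq, hCq0, hCq⟩ :=
          ((AnPts.differentiable_eval Qq).differentiableAt (x := c)).hasFDerivAt.isBigO_sub.exists_nonneg
        let Bb := ‖MvPolynomial.eval c Qb‖ + 1
        refine ⟨Cq ^ (D * N) * Bb, by positivity, ?_⟩
        filter_upwards [hCq.bound, ((MvPolynomial.continuous_eval Qb).norm.tendsto c).eventually (gt_mem_nhds (lt_add_one _))]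
          with v hv hvb p' y _ _ hy
        have hpq : MvPolynomial.eval c Qq = 0 := by
          rw [← hpc, ← point_eq_eval, hQq]; exact hq p hp0 (hpc ▸ hcT) (hpc ▸ hc)
        rw [map_mul, map_pow, norm_mul, norm_pow]
        calc ‖y q‖ ^ (D * N) * ‖y b‖ ≤ (Cq * ‖v - c‖) ^ (D * N) * Bb := by
              refine mul_le_mul (pow_le_pow_left₀ (norm_nonneg _) ?_ _) ?_ (norm_nonneg _) (by positivity)
              · rw [← hQq, point_eq_eval, hy]; simpa [hpq] using hv
              · rw [← hQb, point_eq_eval, hy]; exact hvb.le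
          _ = _ := by rw [mul_pow]; ring
      · push Not at hp'
        exact ⟨0, le_rfl, .of_forall fun v p y hp0 hpc => absurd hpc (hp' p hp0)⟩
  choose! C₃ hC₃0 hC₃ using hest
  let C₄ : ℝ := (∑ c ∈ T, C₃ c) * C₂ ^ N
  have hC₄ : 0 ≤ ∑ c ∈ T, C₃ c := Finset.sum_nonneg fun c hc => hC₃0 c hc
  have hbound : ∀ᶠ z in 𝓝 (0 : Fin d → ℂ), ∀ y, zy y = z → ‖y b'‖ ≤ C₄ * ‖z‖ ^ N := by
    obtain ⟨r, hr, hrC⟩ : ∃ r > 0, ∀ c ∈ T, ∀ v, ‖v - c‖ < r → ∀ p y, zy p = 0 → crd a p = c → crd a y = v →
        ‖y b'‖ ≤ C₃ c * ‖v - c‖ ^ (D * N) := by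
      choose! r hr hrC using fun c (hc : c ∈ T) => Metric.eventually_nhds_iff_ball.1 (hC₃ c hc)
      rcases T.eq_empty_or_nonempty with hT | hT
      · exact ⟨1, one_pos, fun c hc => by simp [hT] at hc⟩
      obtain ⟨c0, hc0, hmin⟩ := T.exists_min_image r hT
      exact ⟨r c0, hr c0 hc0, fun c hc v hv => hrC c hc v (by
        rw [Metric.mem_ball, dist_eq_norm]; exact hv.trans_le (hmin c hc))⟩
    filter_upwards [hfib, ((continuous_const.mul continuous_norm).tendsto' (0 : Fin d → ℂ) 0
        (by simp : C₂ * ‖(0 : Fin d → ℂ)‖ = 0)).eventually (gt_mem_nhds (pow_pos hr D))] with z hz hz' y hy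
    obtain ⟨p, hp0, hpT, hle⟩ := hz y hy
    refine (hrC _ hpT _ (lt_of_pow_lt_pow_left₀ D hr.le (hle.trans_lt hz')) p y hp0 rfl rfl).trans ?_
    calc C₃ (crd a p) * ‖crd a y - crd a p‖ ^ (D * N) ≤ (∑ c ∈ T, C₃ c) * (C₂ * ‖z‖) ^ N := by
          rw [pow_mul]
          exact mul_le_mul (Finset.single_le_sum (fun c hc => hC₃0 c hc) hpT) (pow_le_pow_left₀ (by positivity) hle N)
            (by positivity) hC₄
      _ = C₄ * ‖z‖ ^ N := by rw [mul_pow]; ring
  have hcoef : ∀ c : A, τ (b' * c) ∈ MvPolynomial.idealOfVars (Fin d) ℂ ^ N := by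
    intro c
    rw [hτ]
    refine Ideal.mul_mem_left _ _ (neg_mem ?_)
    obtain ⟨Qc, hQc⟩ := ha c
    let Bc : ℝ := ∑ v ∈ T, (‖MvPolynomial.eval v Qc‖ + 1)
    refine mem_pow_idealOfVars_of_bound (C := (minpoly R (b' * c)).natDegree * (C₄ * Bc)) ?_
    have hcb : ∀ᶠ z in 𝓝 (0 : Fin d → ℂ), ∀ y, zy y = z → ‖y c‖ ≤ Bc := by
      choose r hr hrC using fun v => Metric.eventually_nhds_iff_ball.1
        (((MvPolynomial.continuous_eval Qc).norm.tendsto v).eventually (gt_mem_nhds (lt_add_one _)))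
      filter_upwards [hfib, (Filter.eventually_all_finset T).2 fun v _ =>
        ((continuous_const.mul continuous_norm).tendsto' (0 : Fin d → ℂ) 0
          (by simp : C₂ * ‖(0 : Fin d → ℂ)‖ = 0)).eventually (gt_mem_nhds (pow_pos (hr v) D))] with z hz hz' y hy
      obtain ⟨p, hp0, hpT, hle⟩ := hz y hy
      rw [← hQc, point_eq_eval]
      refine ((hrC _ _ ?_).le).trans (Finset.single_le_sum (f := fun v => ‖MvPolynomial.eval v Qc‖ + 1) (fun v _ => by positivity) hpT)
      rw [Metric.mem_ball, dist_eq_norm]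
      exact lt_of_pow_lt_pow_left₀ D (hr _).le (hle.trans_lt (hz' _ hpT))
    filter_upwards [hbound, hcb] with z hz hzc
    let p := (minpoly R (b' * c)).map (MvPolynomial.eval z)
    have hpm : p.Monic := (minpoly.monic (hint _)).map _
    have hnc : MvPolynomial.eval z (minpoly R (b' * c)).nextCoeff = p.nextCoeff := by
      rw [Polynomial.nextCoeff_of_natDegree_pos (minpoly.natDegree_pos (hint _)),
        Polynomial.nextCoeff_of_natDegree_pos (by rw [(minpoly.monic (hint _)).natDegree_map]; exact minpoly.natDegree_pos (hint _)),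
        (minpoly.monic (hint _)).natDegree_map, Polynomial.coeff_map]
    rw [hnc, (IsAlgClosed.splits p).nextCoeff_eq_neg_sum_roots_of_monic hpm, norm_neg]
    refine (norm_multiset_sum_le _).trans ?_
    refine (Multiset.sum_le_card_nsmul _ (C₄ * ‖z‖ ^ N * Bc) fun r hr => ?_).trans (le_of_eq ?_)
    · obtain ⟨w, hw, rfl⟩ := Multiset.mem_map.1 hr
      obtain ⟨y, hy, hyc⟩ := hlift _ z w ((Polynomial.mem_roots hpm.ne_zero).1 hw)
      rw [← hyc, map_mul, norm_mul]
      exact mul_le_mul (hz y hy) (hzc y hy) (norm_nonneg _) (by positivity)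
    · rw [Multiset.card_map, ← (IsAlgClosed.splits p).natDegree_eq_card_roots, nsmul_eq_mul,
        (minpoly.monic (hint _)).natDegree_map]
      ring
  let J := MvPolynomial.idealOfVars (Fin d) ℂ
  have hΦb : Φ b' ∈ J ^ N • (⊤ : Submodule R (Fin me → R)) := by
    rw [pi_eq_sum_univ' (Φ b')]
    exact Submodule.sum_mem _ fun j _ => Submodule.smul_mem_smul (hcoef (e j)) Submodule.mem_top
  have h5 : Φ b' ∈ J ^ (N - c₁) • LinearMap.range Φ := by
    have h := hAR N (Nat.le_add_left _ _)
    have : Φ b' ∈ J ^ N • (⊤ : Submodule R (Fin me → R)) ⊓ LinearMap.range Φ := ⟨hΦb, b', rfl⟩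
    rw [h] at this
    exact Submodule.smul_mono le_rfl inf_le_right this
  rw [← Submodule.map_top, ← Submodule.map_smul''] at h5
  obtain ⟨b'', hb'', hbe⟩ := h5
  rw [hΦ hbe, show N - c₁ = k from Nat.add_sub_cancel _ _, Ideal.smul_top_eq_map, SetLike.mem_coe, Submodule.restrictScalars_mem,
    Ideal.map_pow] at hb''
  refine Ideal.pow_right_mono ?_ k hb''
  simp only [J, MvPolynomial.idealOfVars]
  rw [Ideal.map_span, Ideal.span_le]
  rintro _ ⟨_, ⟨i, rfl⟩, rfl⟩
  exact hgx i

/-- In a reduced algebra of finite type over `ℂ`, functions vanishing to high order at a point lie in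
high powers of its maximal ideal, locally at the point. -/
theorem vanishesTo_key [IsReduced A] [Algebra.FiniteType ℂ A] {m : ℕ} (a : Fin m → A)
    (ha : Function.Surjective (MvPolynomial.aeval a : MvPolynomial (Fin m) ℂ →ₐ[ℂ] A)) (x : A →ₐ[ℂ] ℂ) (k : ℕ) :
    ∃ M, ∀ b, VanishesTo a x b M → ∃ s : A, x s ≠ 0 ∧ s * b ∈ (RingHom.ker x) ^ k := by
  classical
  haveI : IsNoetherianRing A := Algebra.FiniteType.isNoetherianRing ℂ A
  let I := {P : Ideal A // P ∈ minimalPrimes A}
  haveI : Fintype I := (minimalPrimes.finite_of_isNoetherianRing A).fintype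
  haveI : ∀ P : I, P.1.IsPrime := fun P => P.2.1.1
  let Φ : A →ₗ[A] ((P : I) → A ⧸ P.1) := LinearMap.pi fun P => (Ideal.Quotient.mkₐ A P.1).toLinearMap
  have hΦ : Function.Injective Φ := by
    rw [injective_iff_map_eq_zero]
    intro b hb
    have : b ∈ sInf (minimalPrimes A) := Ideal.mem_sInf.2 fun {P} hP =>
      Ideal.Quotient.eq_zero_iff_mem.1 (congrFun hb ⟨P, hP⟩)
    rw [minimalPrimes, Ideal.sInf_minimalPrimes] at this
    exact (Submodule.mem_bot A).1 ((nilradical_eq_zero A).le this)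
  let 𝔪 : Ideal A := RingHom.ker x
  obtain ⟨c₁, hAR⟩ := Ideal.exists_pow_inf_eq_pow_smul 𝔪 (LinearMap.range Φ)
  have hP : ∀ P : I, ∃ M, ∀ b, VanishesTo a x b M → ∃ s : A, x s ≠ 0 ∧ Ideal.Quotient.mk P.1 (s * b) ∈
      (𝔪.map (Ideal.Quotient.mk P.1)) ^ (k + c₁) := by
    intro P
    by_cases hPx : P.1 ≤ RingHom.ker x
    · let π : A →ₐ[ℂ] A ⧸ P.1 := Ideal.Quotient.mkₐ ℂ P.1
      let x' : (A ⧸ P.1) →ₐ[ℂ] ℂ := Ideal.Quotient.liftₐ P.1 x hPx
      have hsurj : Function.Surjective (MvPolynomial.aeval (fun i => π (a i)) : MvPolynomial (Fin m) ℂ →ₐ[ℂ] A ⧸ P.1) := by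
        intro u
        obtain ⟨u, rfl⟩ := Ideal.Quotient.mk_surjective u
        obtain ⟨Q, rfl⟩ := ha u
        exact ⟨Q, (DFunLike.congr_fun (MvPolynomial.comp_aeval a π) Q).symm⟩
      haveI : Algebra.FiniteType ℂ (A ⧸ P.1) := Algebra.FiniteType.of_surjective π Ideal.Quotient.mk_surjective
      obtain ⟨M, hM⟩ := vanishesTo_key_domain (fun i => π (a i)) hsurj x' (k + c₁)
      refine ⟨M, fun b ⟨C, hC⟩ => ?_⟩
      obtain ⟨s, hs, hsb⟩ := hM (π b) ⟨C, hC.mono fun v hv y hy => hv (y.comp π) hy⟩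
      obtain ⟨s, rfl⟩ := Ideal.Quotient.mk_surjective s
      refine ⟨s, hs, ?_⟩
      rw [map_mul]
      refine Ideal.pow_right_mono ?_ _ hsb
      intro u hu
      obtain ⟨u, rfl⟩ := Ideal.Quotient.mk_surjective u
      exact Ideal.mem_map_of_mem _ hu
    · obtain ⟨s, hs, hsx⟩ := Set.not_subset.1 hPx
      exact ⟨0, fun b _ => ⟨s, hsx, by rw [map_mul, Ideal.Quotient.eq_zero_iff_mem.2 hs, zero_mul]; exact zero_mem _⟩⟩
  choose M hM using hP
  refine ⟨∑ P, M P, fun b ⟨C, hC⟩ => ?_⟩
  have hP' : ∀ P, VanishesTo a x b (M P) := fun P => by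
    refine ⟨max C 0, ?_⟩
    filter_upwards [hC, Metric.ball_mem_nhds (crd a x) one_pos] with v hv hv1 y hy
    rw [Metric.mem_ball, dist_eq_norm] at hv1
    exact (hv y hy).trans (mul_le_mul (le_max_left _ _)
      (pow_le_pow_of_le_one (norm_nonneg _) hv1.le (Finset.single_le_sum (fun Q _ => Nat.zero_le (M Q)) (Finset.mem_univ P)))
      (pow_nonneg (norm_nonneg _) _) (le_max_right _ _))
  choose s hs hsb using fun P => hM P b (hP' P)
  refine ⟨∏ P, s P, by rw [map_prod]; exact Finset.prod_ne_zero_iff.2 fun P _ => hs P, ?_⟩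
  let b' := (∏ P, s P) * b
  have h1 : ∀ P : I, Ideal.Quotient.mk P.1 b' ∈ (𝔪.map (Ideal.Quotient.mk P.1)) ^ (k + c₁) := fun P => by
    rw [show b' = (∏ Q ∈ Finset.univ.erase P, s Q) * (s P * b) by
      rw [← mul_assoc, Finset.prod_erase_mul _ _ (Finset.mem_univ P)], map_mul]
    exact Ideal.mul_mem_left _ _ (hsb P)
  have h2 : Φ b' ∈ 𝔪 ^ (k + c₁) • (⊤ : Submodule A ((P : I) → A ⧸ P.1)) := by
    rw [← Finset.univ_sum_single (Φ b')]
    refine Submodule.sum_mem _ fun P _ => ?_
    have h3 : Φ b' P ∈ 𝔪 ^ (k + c₁) • (⊤ : Submodule A (A ⧸ P.1)) := by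
      rw [Ideal.smul_top_eq_map, Submodule.restrictScalars_mem, Ideal.map_pow]
      exact h1 P
    have h4 := Submodule.mem_map_of_mem (f := LinearMap.single A (fun (P : I) => A ⧸ P.1) P) h3
    rw [Submodule.map_smul''] at h4
    exact Submodule.smul_mono le_rfl le_top h4
  have h5 : Φ b' ∈ 𝔪 ^ k • LinearMap.range Φ := by
    have h := hAR (k + c₁) (Nat.le_add_left _ _)
    have h6 : Φ b' ∈ 𝔪 ^ (k + c₁) • (⊤ : Submodule A ((P : I) → A ⧸ P.1)) ⊓ LinearMap.range Φ := ⟨h2, b', rfl⟩
    rw [h, Nat.add_sub_cancel] at h6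
    exact Submodule.smul_mono le_rfl inf_le_right h6
  rw [← Submodule.map_top, ← Submodule.map_smul''] at h5
  obtain ⟨u, hu, hue⟩ := h5
  rw [hΦ hue, smul_eq_mul, Ideal.mul_top] at hu
  exact hu

end Groth.Agent.AnStalk
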