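import Groth.Agent.AnStalk.Basic
import Groth.Agent.AnStalk.Implicit
import Groth.Agent.AnEps.FullFaithful
import Groth.Agent.EtStruct.Scheme
import Groth.Agent.FlatOpen.Scheme
import Mathlib.AlgebraicGeometry.Morphisms.FlatMono

/-!
# Morphisms and the stalks of holomorphic functions
-/

set_option autoImplicit false
set_option backward.isDefEq.respectTransparency false

open AlgebraicGeometry CategoryTheory TopologicalSpace Topology Filter IsLocalRing
open An CategoryTheory.Limits

namespace Groth.Agent.AnStalk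

universe u

section algebra

open TensorProduct

variable {R S H G : Type u} [CommRing R] [CommRing S] [CommRing H] [CommRing G] [IsLocalRing R] [IsLocalRing S]
  [IsLocalRing H] [IsLocalRing G] [IsNoetherianRing R] [IsNoetherianRing S] [IsNoetherianRing H]
  [IsNoetherianRing G] [Algebra R S] [Algebra R H] [Algebra S G] [Algebra H G] [Algebra R G]
  [IsScalarTower R S G] [IsScalarTower R H G] [IsLocalHom (algebraMap H G)]

theorem flat_iff (hR : SameCompletion R H) (hS : SameCompletion S G) : Module.Flat R S ↔ Module.Flat H G := by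
  haveI := hR.flat
  haveI := hS.faithfullyFlat
  refine ⟨fun _ => ?_, fun _ => ?_⟩
  swap
  · haveI : Module.Flat R G := Module.Flat.trans R H G
    exact flat_of_faithfullyFlat R S G
  haveI : Module.Flat R G := Module.Flat.trans R S G
  refine LocFlat.flat_of_forall_pow (S := G) G (maximalIdeal H) ?_ fun n M N _ _ _ _ a ha hN => ?_
  · rw [IsLocalRing.jacobson_eq_maximalIdeal (⊥ : Ideal G) bot_ne_top]
    exact ((local_hom_TFAE (algebraMap H G)).out 0 2 rfl rfl).mp ‹_›
  letI : Module R M := Module.compHom M (algebraMap R H)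
  letI : Module R N := Module.compHom N (algebraMap R H)
  haveI : IsScalarTower R H M := ⟨fun x y z => by
    show (x • y) • z = algebraMap R H x • y • z
    rw [Algebra.smul_def, mul_smul]⟩
  haveI : IsScalarTower R H N := ⟨fun x y z => by
    show (x • y) • z = algebraMap R H x • y • z
    rw [Algebra.smul_def, mul_smul]⟩
  have hzero : ∀ (Z : Type u) [AddCommGroup Z] [Module H Z], maximalIdeal H ^ n • (⊤ : Submodule H Z) = ⊥ →
      ∀ μ ∈ maximalIdeal H ^ n, ∀ x : Z, μ • x = 0 := fun Z _ _ hZ μ hμ x => by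
    rw [← Submodule.mem_bot H, ← hZ]
    exact Submodule.smul_mem_smul hμ trivial
  have hM : maximalIdeal H ^ n • (⊤ : Submodule H M) = ⊥ := by
    rw [eq_bot_iff, Submodule.smul_le]
    intro μ hμ x _
    rw [Submodule.mem_bot]
    exact ha (by rw [map_smul, hzero N hN μ hμ, map_zero])
  have hcompat : ∀ (Z : Type u) [AddCommGroup Z] [Module H Z] [Module R Z] [IsScalarTower R H Z],
      maximalIdeal H ^ n • (⊤ : Submodule H Z) = ⊥ → TensorProduct.CompatibleSMul R H Z G :=
    fun Z _ _ _ _ hZ => ⟨fun α x b => by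
      obtain ⟨a₀, ha₀⟩ := hR.surj α n
      have key : x ⊗ₜ[R] ((α - algebraMap R H a₀) • b) = 0 := by
        have hmem : (α - algebraMap R H a₀) • b ∈ (maximalIdeal R ^ n • ⊤ : Submodule R G) := by
          rw [Ideal.smul_top_eq_map, Submodule.restrictScalars_mem, IsScalarTower.algebraMap_eq R H G,
            ← Ideal.map_map, Ideal.map_pow (algebraMap R H), hR.map_max, Algebra.smul_def]
          refine Ideal.mul_mem_right _ _ (Ideal.mem_map_of_mem _ ?_)
          rw [← neg_sub]
          exact neg_mem ha₀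
        refine Submodule.smul_induction_on hmem (fun r hr b' _ => ?_) fun u v hu hv => by
          rw [TensorProduct.tmul_add, hu, hv, add_zero]
        rw [← TensorProduct.smul_tmul, ← algebraMap_smul H r x,
          hzero Z hZ (algebraMap R H r) (by
            rw [← hR.map_max, ← Ideal.map_pow]
            exact Ideal.mem_map_of_mem _ hr) x, TensorProduct.zero_tmul]
      rw [sub_smul, algebraMap_smul, TensorProduct.tmul_sub, sub_eq_zero] at key
      rw [key, ← TensorProduct.smul_tmul]
      congr 1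
      rw [← sub_eq_zero, ← algebraMap_smul H a₀ x, ← sub_smul, hzero Z hZ]
      rw [← neg_sub]
      exact neg_mem ha₀⟩
  haveI := hcompat M hM
  haveI := hcompat N hN
  let eM := TensorProduct.equivOfCompatibleSMul R H R M G
  let eN := TensorProduct.equivOfCompatibleSMul R H R N G
  intro z w hzw
  have h1 : ∀ z, eN (a.rTensor G z) = (a.restrictScalars R).rTensor G (eM z) := fun z => by
    induction z using TensorProduct.induction_on with
    | zero => simp only [map_zero]
    | tmul x b => rfl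
    | add u v hu hv => simp only [map_add, hu, hv]
  exact eM.injective (Module.Flat.rTensor_preserves_injective_linearMap (M := G) (a.restrictScalars R) ha
    ((h1 z).symm.trans ((congrArg eN hzw).trans (h1 w))))

end algebra

variable {X Y : Scheme.{0}} [X.Over SC] [Y.Over SC] (f : X ⟶ Y) [f.IsOver SC] (x : Pts X)

/-- The map on stalks of holomorphic functions. -/
noncomputable def anStalk : Stk (Pts.map f x) →+* Stk x := (PresheafedSpace.Hom.stalkMap (An.anMap f) x).hom

/-- The map on algebraic stalks at a `ℂ`-point. -/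
noncomputable def algStalk : Y.presheaf.stalk (Pts.map f x).pt →+* X.presheaf.stalk x.pt := (f.stalkMap x.pt).hom

instance isLocalHom_algStalk : IsLocalHom (algStalk f x) := inferInstanceAs (IsLocalHom (f.stalkMap x.pt).hom)

theorem tendsto_map : Tendsto (Pts.map f) (𝓝 x) (𝓝 (Pts.map f x)) := (Pts.continuous_map f).continuousAt

theorem gm_anStalk (h : Stk (Pts.map f x)) :
    gm x (anStalk f x h) = (gm (Pts.map f x) h).compTendsto (Pts.map f) (tendsto_map f x) := by
  obtain ⟨U, hU, g, rfl⟩ := exists_germ _ h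
  have h1 : anStalk f x ((An.anSpace Y).presheaf.germ U (Pts.map f x) hU g) =
      (An.anSpace X).presheaf.germ _ x hU ((An.anMap f).c.app (Opposite.op U) g) :=
    PresheafedSpace.stalkMap_germ_apply (An.anMap f) U x hU g
  rw [h1]
  refine (gm_germ x _ hU _).trans ?_
  rw [gm_germ]
  refine Germ.coe_eq.2 ?_
  filter_upwards [(tendsto_map f x).eventually (U.isOpen.mem_nhds hU)] with z hz
  rw [Function.comp_apply, ext0_of_mem _ hz]
  exact (ext0_of_mem _ (show z ∈ (Opens.map (An.anMap f).base).obj U from hz)).trans rfl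

theorem anStalk_phi (b : Y.presheaf.stalk (Pts.map f x).pt) :
    anStalk f x (phi (Pts.map f x) b) = phi x (algStalk f x b) := by
  obtain ⟨U, hU, t, rfl⟩ := TopCat.Presheaf.germ_exist Y.presheaf b
  refine gm_injective x ?_
  have h1 : algStalk f x (Y.presheaf.germ U (Pts.map f x).pt hU t) = X.presheaf.germ (f ⁻¹ᵁ U) x.pt hU (f.app U t) :=
    Scheme.Hom.germ_stalkMap_apply f U x.pt hU t
  rw [gm_anStalk, h1, gm_phi, gm_phi]
  refine Germ.coe_eq.2 ?_
  filter_upwards [(tendsto_map f x).eventually ((Pts.isOpen_preimage_pt U).mem_nhds hU)] with z hz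
  rw [Function.comp_apply, evFun_of_mem _ hz, evFun_of_mem _ (show z.pt ∈ f ⁻¹ᵁ U from hz)]
  exact Pts.ev_map f z U hz t

theorem value_anStalk (h : Stk (Pts.map f x)) : value x (anStalk f x h) = value (Pts.map f x) h := by
  obtain ⟨U, hU, g, rfl⟩ := exists_germ _ h
  change Germ.value (gm x (anStalk f x _)) = Germ.value (gm (Pts.map f x) _)
  rw [gm_anStalk, gm_germ]
  rfl

variable [LocallyOfFiniteType (X ↘ SC)] [LocallyOfFiniteType (Y ↘ SC)]

instance isLocalHom_anStalk : IsLocalHom (anStalk f x) :=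
  ((IsLocalRing.local_hom_TFAE (anStalk f x)).out 0 2).2 (Ideal.map_le_iff_le_comap.2 fun h hh => by
    rw [Ideal.mem_comap, mem_maximalIdeal_iff_value, value_anStalk]
    exact (mem_maximalIdeal_iff_value h).1 hh)

theorem map_map_maximalIdeal :
    (maximalIdeal (Stk (Pts.map f x))).map (anStalk f x) =
      ((maximalIdeal (Y.presheaf.stalk (Pts.map f x).pt)).map (algStalk f x)).map (phi x) := by
  rw [← map_maximalIdeal (x := Pts.map f x), Ideal.map_map, Ideal.map_map]
  exact congrArg (fun φ => Ideal.map φ _) (RingHom.ext (anStalk_phi f x))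

theorem map_max_iff [AlgebraicGeometry.IsReduced X] :
    (maximalIdeal (Stk (Pts.map f x))).map (anStalk f x) = maximalIdeal (Stk x) ↔
      (maximalIdeal (Y.presheaf.stalk (Pts.map f x).pt)).map (algStalk f x) = maximalIdeal (X.presheaf.stalk x.pt) := by
  haveI := isNoetherianRing_stalk (X := X) x.pt
  rw [map_map_maximalIdeal]
  refine ⟨fun h => ?_, fun h => by rw [h, map_maximalIdeal]⟩
  letI := stalkAlgebra x
  haveI := (sameCompletion x).faithfullyFlat
  have h2 := congrArg (Ideal.comap (phi x)) h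
  rw [← map_maximalIdeal (x := x), show phi x = algebraMap (X.presheaf.stalk x.pt) (Stk x) from rfl,
    Ideal.comap_map_eq_self_of_faithfullyFlat, Ideal.comap_map_eq_self_of_faithfullyFlat] at h2
  exact h2

omit [LocallyOfFiniteType (X ↘ SC)] in
theorem locallyOfFiniteType [LocallyOfFiniteType (X ↘ SC)] : LocallyOfFiniteType f :=
  haveI : LocallyOfFiniteType (f ≫ Y ↘ SC) := by rw [comp_over f]; infer_instance
  locallyOfFiniteType_of_comp f (Y ↘ SC)

theorem formallyUnramified_algStalk_iff :
    (algStalk f x).FormallyUnramified ↔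
      (maximalIdeal (Y.presheaf.stalk (Pts.map f x).pt)).map (algStalk f x) = maximalIdeal (X.presheaf.stalk x.pt) := by
  haveI := locallyOfFiniteType f
  letI := (algStalk f x).toAlgebra
  haveI : IsLocalHom (algebraMap (Y.presheaf.stalk (Pts.map f x).pt) (X.presheaf.stalk x.pt)) := isLocalHom_algStalk f x
  haveI : Algebra.EssFiniteType (Y.presheaf.stalk (Pts.map f x).pt) (X.presheaf.stalk x.pt) :=
    RingHom.essFiniteType_algebraMap.1 (LocallyOfFiniteType.stalkMap f x.pt)
  rw [← RingHom.algebraMap_toAlgebra (algStalk f x), RingHom.formallyUnramified_algebraMap,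
    Algebra.FormallyUnramified.iff_map_maximalIdeal_eq]
  refine and_iff_right ⟨fun z => ?_⟩
  obtain ⟨a, rfl⟩ := IsLocalRing.residue_surjective z
  obtain ⟨c⟩ := exists_chart (Pts.map f x)
  let b := Y.presheaf.germ c.W _ c.hx (str c.W (value x (phi x a)))
  have hb : IsLocalRing.residue _ a = algebraMap (ResidueField (Y.presheaf.stalk (Pts.map f x).pt))
      (ResidueField (X.presheaf.stalk x.pt)) (IsLocalRing.residue _ b) := by
    rw [IsLocalRing.ResidueField.algebraMap_residue, ← sub_eq_zero, ← map_sub, IsLocalRing.residue_eq_zero_iff]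
    obtain ⟨U, hU, t, ht⟩ := TopCat.Presheaf.germ_exist X.presheaf (a - algStalk f x b)
    change a - algStalk f x b ∈ _
    rw [← ht]
    refine (germ_mem_maximalIdeal_iff U hU t).2 ?_
    rw [← value_phi U hU t, ht, map_sub, map_sub, ← anStalk_phi, value_anStalk, value_phi c.W c.hx, ev_str, sub_self]
  rw [hb]
  exact isSeparable_algebraMap _

theorem formallyUnramified_iff [AlgebraicGeometry.IsReduced X] :
    FormallyUnramified f ↔ ∀ x : Pts X, (maximalIdeal (Stk (Pts.map f x))).map (anStalk f x) = maximalIdeal (Stk x) := by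
  haveI := locallyOfFiniteType f
  constructor
  · intro h x
    exact (map_max_iff f x).2 ((formallyUnramified_algStalk_iff f x).1 (FormallyUnramified.stalkMap f x.pt))
  · intro h
    choose W hW hWu using fun x : Pts X => (EtStruct.formallyUnramified_nhd_iff f x.pt).2
      ((formallyUnramified_algStalk_iff f x).2 ((map_max_iff f x).1 (h x)))
    have hcov : iSup W = ⊤ := by
      refine top_unique fun p _ => ?_
      exact (AnEps.isOpen_eq_univ_of_pts (iSup W) fun x => Opens.mem_iSup.2 ⟨x, hW x⟩).ge (Set.mem_univ p)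
    exact (IsZariskiLocalAtSource.iff_of_iSup_eq_top W hcov).2 hWu

theorem flat_algStalk_iff [AlgebraicGeometry.IsReduced X] [AlgebraicGeometry.IsReduced Y] :
    (algStalk f x).Flat ↔ (anStalk f x).Flat := by
  haveI := isNoetherianRing_stalk (X := X) x.pt
  haveI := isNoetherianRing_stalk (X := Y) (Pts.map f x).pt
  letI := stalkAlgebra x
  letI := stalkAlgebra (Pts.map f x)
  letI := (algStalk f x).toAlgebra
  letI := (anStalk f x).toAlgebra
  letI : Algebra (Y.presheaf.stalk (Pts.map f x).pt) (Stk x) := ((phi x).comp (algStalk f x)).toAlgebra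
  haveI : IsScalarTower (Y.presheaf.stalk (Pts.map f x).pt) (X.presheaf.stalk x.pt) (Stk x) :=
    IsScalarTower.of_algebraMap_eq fun _ => rfl
  haveI : IsScalarTower (Y.presheaf.stalk (Pts.map f x).pt) (Stk (Pts.map f x)) (Stk x) :=
    IsScalarTower.of_algebraMap_eq fun b => (anStalk_phi f x b).symm
  haveI : IsLocalHom (algebraMap (Stk (Pts.map f x)) (Stk x)) := isLocalHom_anStalk f x
  exact RingHom.flat_algebraMap_iff.trans
    ((flat_iff (sameCompletion (Pts.map f x)) (sameCompletion x)).trans RingHom.flat_algebraMap_iff.symm)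

theorem flat_iff_an [AlgebraicGeometry.IsReduced X] [AlgebraicGeometry.IsReduced Y] :
    Flat f ↔ ∀ x : Pts X, (anStalk f x).Flat := by
  haveI := locallyOfFiniteType f
  haveI : IsLocallyNoetherian Y := LocallyOfFiniteType.isLocallyNoetherian (Y ↘ SC)
  refine ⟨fun h x => (flat_algStalk_iff f x).1 (Flat.stalkMap f x.pt), fun h => Flat.of_stalkMap f fun p => ?_⟩
  exact (AnEps.isOpen_eq_univ_of_pts (X := X) ⟨_, FlatOpen.Scheme.isOpen_stalkMap_flat f⟩
    fun x => (flat_algStalk_iff f x).2 (h x)).ge (Set.mem_univ p)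

theorem anStalk_surjective (h : (maximalIdeal (Stk (Pts.map f x))).map (anStalk f x) = maximalIdeal (Stk x)) :
    Function.Surjective (anStalk f x) := by
  obtain ⟨cY⟩ := exists_chart (Pts.map f x)
  obtain ⟨cX⟩ := exists_chart x
  let τ : Pts X → (Fin cX.n → ℂ) := fun z => cX.coord z - cX.coord x
  let υ : Pts X → (Fin cY.n → ℂ) := fun z => cY.coord (Pts.map f z) - cY.coord (Pts.map f x)
  have hτ : Tendsto τ (𝓝 x) (𝓝 0) := cX.tendsto_sub
  have hυ : Tendsto υ (𝓝 x) (𝓝 0) := cY.tendsto_sub.comp (tendsto_map f x)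
  let L : Fin cY.n → Stk x := fun j =>
    anStalk f x (cY.psi (hol.lin (ContinuousLinearMap.proj (R := ℂ) (φ := fun _ : Fin cY.n => ℂ) j)))
  have hL : ∀ j, gm x (L j) = ↑(fun z => υ z j) := fun j => by
    rw [gm_anStalk, cY.gm_psi]; rfl
  have hspan : maximalIdeal (Stk x) ≤ Ideal.span (Set.range L) := by
    rw [← h, cY.maximalIdeal_eq_map, Ideal.map_map]
    refine (Ideal.map_mono hol.maximalIdeal_le_span_coord).trans ?_
    rw [Ideal.map_span, Ideal.span_le]
    rintro _ ⟨_, ⟨j, rfl⟩, rfl⟩
    exact Ideal.subset_span ⟨j, rfl⟩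
  have hrel : ∀ i : Fin cX.n, ∃ C : Fin cY.n → (Fin cX.n → ℂ) → ℂ,
      (∀ j, ∀ᶠ t in 𝓝 0, DifferentiableAt ℂ (C j) t) ∧ ∀ᶠ z in 𝓝 x, τ z i = ∑ j, C j (τ z) * υ z j := by
    intro i
    have hm : cX.psi (hol.lin (ContinuousLinearMap.proj (R := ℂ) (φ := fun _ : Fin cX.n => ℂ) i)) ∈ maximalIdeal (Stk x) := by
      rw [cX.maximalIdeal_eq_map]
      exact Ideal.mem_map_of_mem _ ((hol.mem_maximalIdeal_iff _).2 (hol.val_lin _))
    obtain ⟨cc, hcc⟩ := Ideal.mem_span_range_iff_exists_fun.1 (hspan hm)
    choose g hg using fun j => cX.psi_surjective (cc j)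
    choose C hC hgC using fun j => hol.exists_mk (g j)
    refine ⟨C, hC, ?_⟩
    have h1 := congrArg (gm x) hcc
    rw [map_sum, cX.gm_psi] at h1
    simp only [map_mul, ← hg, cX.gm_psi, hgC, hL] at h1
    have h2 : (∑ j, cX.pull (hol.mk (C j) (hC j)) * (↑(fun z => υ z j) : Germ (𝓝 x) ℂ)) =
        ↑(∑ j, (fun z => C j (τ z)) * (fun z => υ z j)) := by
      rw [← Germ.coe_coeRingHom, map_sum]
      simp only [map_mul]
      rfl
    rw [h2] at h1
    refine (Germ.coe_eq.1 h1).mono fun z hz => ?_
    have h3 := hz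
    simp only [Finset.sum_apply, Pi.mul_apply] at h3
    exact h3.symm
  choose C hC hCrel using hrel
  let Ψ : (Fin cY.n → ℂ) × (Fin cX.n → ℂ) → (Fin cX.n → ℂ) := fun p i => p.2 i - ∑ j, C i j p.2 * p.1 j
  have hΨd : ∀ᶠ p in 𝓝 0, DifferentiableAt ℂ Ψ p := by
    have hsnd : Tendsto (Prod.snd : (Fin cY.n → ℂ) × (Fin cX.n → ℂ) → _) (𝓝 0) (𝓝 0) :=
      continuous_snd.tendsto' 0 0 rfl
    filter_upwards [hsnd.eventually (Filter.eventually_all.2 fun i => Filter.eventually_all.2 fun j => hC i j)] with p hp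
    refine differentiableAt_pi.2 fun i => ?_
    show DifferentiableAt ℂ (fun q => q.2 i - ∑ j, C i j q.2 * q.1 j) p
    refine ((differentiableAt_apply (𝕜 := ℂ) i p.2).comp p (differentiableAt_snd (𝕜 := ℂ))).fun_sub ?_
    exact DifferentiableAt.fun_sum fun j _ =>
      ((hp i j).comp p (differentiableAt_snd (𝕜 := ℂ))).fun_mul
        ((differentiableAt_apply (𝕜 := ℂ) j p.1).comp p (differentiableAt_fst (𝕜 := ℂ)))
  have hΨinj : ∀ v, fderiv ℂ Ψ 0 (0, v) = 0 → v = 0 := fun v hv => by
    have h1 : HasFDerivAt (fun w : Fin cX.n → ℂ => Ψ (0, w))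
        ((fderiv ℂ Ψ 0).comp (ContinuousLinearMap.inr ℂ (Fin cY.n → ℂ) (Fin cX.n → ℂ))) 0 :=
      (show HasFDerivAt Ψ _ ((0 : Fin cY.n → ℂ), (0 : Fin cX.n → ℂ)) from hΨd.self_of_nhds.hasFDerivAt).comp 0
        (hasFDerivAt_prodMk_right (0 : Fin cY.n → ℂ) 0)
    have h2 : (fun w : Fin cX.n → ℂ => Ψ (0, w)) = id := by
      funext w i; simp [Ψ]
    rw [h2] at h1
    exact (DFunLike.congr_fun (h1.unique (hasFDerivAt_id 0)) v).symm.trans hv
  obtain ⟨G, hG0, hGd, hG⟩ := exists_implicit hΨd (funext fun i => by simp [Ψ]) hΨinj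
  have hτG : ∀ᶠ z in 𝓝 x, τ z = G (υ z) := by
    filter_upwards [(hυ.prodMk_nhds hτ).eventually hG, Filter.eventually_all.2 hCrel] with z h1 h2
    exact h1 (funext fun i => sub_eq_zero.2 (h2 i))
  intro t
  obtain ⟨g, rfl⟩ := cX.psi_surjective t
  obtain ⟨F, hF, rfl⟩ := hol.exists_mk g
  refine ⟨cY.psi (hol.comp G hG0 hGd (hol.mk F hF)), gm_injective x ?_⟩
  rw [gm_anStalk, cY.gm_psi, cX.gm_psi]
  exact Germ.coe_eq.2 (hτG.mono fun z hz => (congrArg F hz).symm)

end Groth.Agent.AnStalk

namespace Groth.Agent.AnStalk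

variable {X Y : Scheme.{0}} [X.Over SC] [Y.Over SC] [LocallyOfFiniteType (X ↘ SC)] [LocallyOfFiniteType (Y ↘ SC)]
  (f : X ⟶ Y) [f.IsOver SC]

theorem etale_iff_bijective [AlgebraicGeometry.IsReduced X] [AlgebraicGeometry.IsReduced Y] :
    Etale f ↔ ∀ x : Pts X, Function.Bijective (anStalk f x) := by
  haveI := locallyOfFiniteType f
  haveI : IsLocallyNoetherian Y := LocallyOfFiniteType.isLocallyNoetherian (Y ↘ SC)
  constructor
  · intro h x
    refine ⟨?_, anStalk_surjective f x ((formallyUnramified_iff f).1 inferInstance x)⟩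
    letI := (anStalk f x).toAlgebra
    haveI : IsLocalHom (algebraMap (Stk (Pts.map f x)) (Stk x)) := isLocalHom_anStalk f x
    haveI : Module.Flat (Stk (Pts.map f x)) (Stk x) := (flat_iff_an f).1 inferInstance x
    haveI := Module.FaithfullyFlat.of_flat_of_isLocalHom (A := Stk (Pts.map f x)) (B := Stk x)
    exact FaithfulSMul.algebraMap_injective (Stk (Pts.map f x)) (Stk x)
  · intro h
    haveI : FormallyUnramified f := (formallyUnramified_iff f).2 fun x => by
      refine le_antisymm (((local_hom_TFAE (anStalk f x)).out 0 2 rfl rfl).mp (isLocalHom_anStalk f x)) fun t ht => ?_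
      obtain ⟨s, rfl⟩ := (h x).2 t
      refine Ideal.mem_map_of_mem _ ((mem_maximalIdeal s).2 fun hs => ?_)
      exact (mem_maximalIdeal _).1 ht (hs.map _)
    haveI : Flat f := (flat_iff_an f).2 fun x => RingHom.Flat.of_bijective (h x)
    exact Etale.of_formallyUnramified_of_flat f

theorem bijective_anStalk_of_homeomorph (e : Pts X ≃ₜ Pts Y) (he : ⇑e = Pts.map f)
    (hhol : IsHolMap (⟨e.symm, e.symm.continuous⟩ : C(Pts Y, Pts X))) (x : Pts X) :
    Function.Bijective (anStalk f x) := by
  have hev : ∀ z, Pts.map f (e.symm z) = z := fun z => by rw [← he]; exact e.apply_symm_apply z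
  have hev' : ∀ z, e.symm (Pts.map f z) = z := fun z => by rw [← he]; exact e.symm_apply_apply z
  constructor
  · rw [injective_iff_map_eq_zero]
    intro h hh
    obtain ⟨U, hU, g, rfl⟩ := exists_germ _ h
    refine gm_injective _ ?_
    have h1 := congrArg (gm x) hh
    rw [gm_anStalk, gm_germ, map_zero] at h1
    rw [gm_germ, map_zero]
    refine Germ.coe_eq.2 ?_
    have h2 : ∀ᶠ z in 𝓝 x, ext0 U g.1 (Pts.map f z) = 0 := Germ.coe_eq.1 h1
    have h3 : Tendsto e.symm (𝓝 (Pts.map f x)) (𝓝 x) := e.symm.continuous.tendsto' _ _ (hev' x)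
    filter_upwards [h3.eventually h2] with z hz
    rw [hev] at hz
    exact hz
  · intro t
    obtain ⟨U, hU, g, rfl⟩ := exists_germ _ t
    refine ⟨(An.anSpace Y).presheaf.germ ((Opens.map (TopCat.ofHom ⟨e.symm, e.symm.continuous⟩)).obj U)
      (Pts.map f x) (show e.symm (Pts.map f x) ∈ U by rw [hev']; exact hU)
      ⟨fun z => g.1 ⟨e.symm z.1, z.2⟩, hhol U g.1 g.2⟩, gm_injective x ?_⟩
    rw [gm_anStalk, gm_germ, gm_germ]
    refine Germ.coe_eq.2 ?_
    filter_upwards [U.isOpen.mem_nhds hU] with z hz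
    rw [Function.comp_apply, ext0_of_mem _ (show Pts.map f z ∈ (Opens.map (TopCat.ofHom
      ⟨e.symm, e.symm.continuous⟩)).obj U from show e.symm (Pts.map f z) ∈ U by rw [hev']; exact hz), ext0_of_mem _ hz]
    exact congrArg g.1 (Subtype.ext (hev' z))

theorem isIso_of_etale_of_bijective [Etale f] (hf : Function.Bijective (Pts.map f)) : IsIso f := by
  haveI : (pullback.diagonal f).IsOver SC := ⟨by
    change pullback.diagonal f ≫ pullback.fst f f ≫ (X ↘ SC) = X ↘ SC
    rw [← Category.assoc, pullback.diagonal_fst, Category.id_comp]⟩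
  haveI : LocallyOfFiniteType (pullback f f ↘ SC) :=
    inferInstanceAs (LocallyOfFiniteType (pullback.fst f f ≫ X ↘ SC))
  have hdiag : ((pullback.diagonal f).opensRange : Set (pullback f f : Scheme)) = Set.univ := by
    refine AnEps.isOpen_eq_univ_of_pts _ fun z => ?_
    have hz := hf.1 (Pts.map_pullback_condition f f z)
    have h1 : z = Pts.map (pullback.diagonal f) (Pts.map (pullback.fst f f) z) := by
      refine Subtype.ext (pullback.hom_ext ?_ ?_)
      · simp
      · have := congrArg Subtype.val hz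
        simpa using this.symm
    rw [h1, Pts.pt_map]
    exact ⟨_, rfl⟩
  haveI : Surjective (pullback.diagonal f) := ⟨Set.range_eq_univ.1 hdiag⟩
  haveI : IsIso (pullback.diagonal f) :=
    (isIso_iff_isOpenImmersion_and_surjective _).2 ⟨inferInstance, inferInstance⟩
  haveI : Mono f := (pullback.isIso_diagonal_iff f).1 inferInstance
  haveI : IsOpenImmersion f := IsOpenImmersion.of_flat_of_mono f
  haveI : Surjective f := ⟨Set.range_eq_univ.1 (AnEps.isOpen_eq_univ_of_pts f.opensRange fun a => by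
    obtain ⟨t, ht⟩ := hf.2 a
    rw [← ht, Pts.pt_map]
    exact ⟨_, rfl⟩)⟩
  exact (isIso_iff_isOpenImmersion_and_surjective _).2 ⟨inferInstance, inferInstance⟩

end Groth.Agent.AnStalk
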