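import Groth.Agent.AnStalk.Basic
import Groth.Agent.PullStalk.Sky
import Mathlib.RingTheory.IsTensorProduct
import Mathlib.Algebra.Category.ModuleCat.Presheaf.EpiMono

/-!
# Stalks of analytified modules

`MStk N x`: stalks of `O_{X^an}`-modules; `unitStalk M x : M_{x} → (M^an)_x` is a base change along
`phi x` (`isBaseChange_unitStalk`); `mono_of_injective`, `stalkA` for morphisms.
-/

set_option autoImplicit false
set_option backward.isDefEq.respectTransparency false

open AlgebraicGeometry CategoryTheory TopologicalSpace Topology Opposite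
open An

namespace Groth.Agent.AnStalk

open Groth.Agent.PullStalk.Sky (germM germM_smul exists_germM_eq)

variable {X : Scheme.{0}} [X.Over SC]

/-- An `O_{X^an}`-module as a presheaf of modules over the presheaf of holomorphic functions. -/
noncomputable abbrev pmod (M : AnMod X) :
    PresheafOfModules.{0} (An.holPresheaf X ⋙ forget₂ CommRingCat RingCat) := M.val

/-- The underlying abelian presheaf. -/
noncomputable abbrev preP (M : AnMod X) : TopCat.Presheaf Ab.{0} (top X) := (pmod M).presheaf

/-- Stalks of `O_{X^an}`-modules. -/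
noncomputable abbrev MStk (M : AnMod X) (x : Pts X) : Ab.{0} :=
  TopCat.Presheaf.stalk (C := Ab.{0}) (pmod M).presheaf (x : (top X : TopCat.{0}))

noncomputable instance modStk (M : AnMod X) (x : Pts X) : Module (Stk x) (MStk M x) :=
  inferInstanceAs (Module ((An.holPresheaf X).stalk (x : (top X : TopCat.{0})))
    ↑(TopCat.Presheaf.stalk (C := Ab.{0}) (pmod M).presheaf (x : (top X : TopCat.{0}))))

/-- Germ of a section of an `O_{X^an}`-module. -/
noncomputable abbrev germA (M : AnMod X) (U : Opens (top X)) (x : Pts X) (hx : x ∈ U)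
    (m : (pmod M).presheaf.obj (op U)) : MStk M x :=
  TopCat.Presheaf.germ (C := Ab.{0}) (pmod M).presheaf U (x : (top X : TopCat.{0})) hx m

theorem germA_smul (M : AnMod X) (U : Opens (top X)) (x : Pts X) (hx : x ∈ U)
    (r : (An.holPresheaf X).obj (op U)) (m : (pmod M).obj (op U)) :
    germA M U x hx (r • m) = ((An.anSpace X).presheaf.germ U x hx r : Stk x) • germA M U x hx m :=
  PresheafOfModules.germ_smul (R := An.holPresheaf X) (pmod M) x U hx r m

theorem exists_germA_eq (M : AnMod X) (x : Pts X) (t : MStk M x) :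
    ∃ (U : Opens (top X)) (hx : x ∈ U) (m : (pmod M).presheaf.obj (op U)), germA M U x hx m = t := by
  obtain ⟨U, hx, m, hm⟩ := TopCat.Presheaf.exists_germ_eq (C := Ab.{0}) (F := (pmod M).presheaf)
    (x := (x : (top X : TopCat.{0}))) t
  exact ⟨U, hx, m, hm⟩

section sky

variable (x : Pts X) (N : Type) [AddCommGroup N] [Module (Stk x) N]

/-- The abelian presheaf `U ↦ (x ∈ U → N)`. -/
@[simps] noncomputable def skyAb : TopCat.Presheaf Ab.{0} (top X) where
  obj U := AddCommGrpCat.of (PLift (x ∈ U.unop) → N)
  map {U V} i := AddCommGrpCat.ofHom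
    { toFun := fun g h => g ⟨leOfHom i.unop h.down⟩
      map_zero' := rfl
      map_add' := fun _ _ => rfl }

noncomputable instance skyModule (U : (Opens (top X))ᵒᵖ) :
    Module ((An.holPresheaf X ⋙ forget₂ CommRingCat RingCat).obj U) ((skyAb x N).obj U) :=
  letI : ∀ _ : PLift (x ∈ U.unop), Module ((An.holPresheaf X).obj (op U.unop)) N := fun h =>
    Module.compHom N ((An.anSpace X).presheaf.germ U.unop x h.down).hom
  inferInstanceAs (Module ((An.holPresheaf X).obj (op U.unop)) (PLift (x ∈ U.unop) → N))

theorem skyAb_isSheaf : TopCat.Presheaf.IsSheaf (skyAb x N) := by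
  rw [TopCat.Presheaf.isSheaf_iff_isSheafUniqueGluing]
  intro ι U sf hsf
  classical
  have hex : ∀ h : PLift (x ∈ iSup U), ∃ i, x ∈ U i := fun h => Opens.mem_iSup.mp h.down
  refine ⟨fun h => sf (hex h).choose ⟨(hex h).choose_spec⟩, fun i => ?_, fun g hg => ?_⟩
  · funext h
    have hi : x ∈ U i := h.down
    let j := (hex ⟨Opens.mem_iSup.mpr ⟨i, hi⟩⟩).choose
    have hj : x ∈ U j := (hex ⟨Opens.mem_iSup.mpr ⟨i, hi⟩⟩).choose_spec
    exact congr_fun (hsf j i) ⟨⟨hj, hi⟩⟩
  · funext h
    exact congr_fun (hg (hex h).choose) ⟨(hex h).choose_spec⟩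

/-- The skyscraper module at `x` with value `N`. -/
noncomputable def sky : AnMod X :=
  ⟨PresheafOfModules.ofPresheaf (R := An.holPresheaf X ⋙ forget₂ CommRingCat RingCat) (skyAb x N)
    (fun {U V} i r g => by
      funext h
      exact congrArg (fun s : Stk x => s • (show N from g ⟨leOfHom i.unop h.down⟩))
        ((An.anSpace X).presheaf.germ_res_apply i.unop x h.down r).symm),
    skyAb_isSheaf x N⟩

variable {x N} {M : AnMod X}

/-- A linear map on the stalk gives a morphism to the skyscraper module. -/
noncomputable def toSky (φ : MStk M x →ₗ[Stk x] N) : M ⟶ sky x N :=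
  ⟨PresheafOfModules.homMk (M₁ := pmod M) (M₂ := pmod (sky x N))
    { app := fun U => AddCommGrpCat.ofHom (AddMonoidHom.mk' (G := PLift (x ∈ U.unop) → N)
        (fun (m : (pmod M).presheaf.obj U) h => φ (germA M U.unop x h.down m)) fun a b => by
          funext h
          exact (congrArg φ (map_add (TopCat.Presheaf.germ (C := Ab.{0}) (pmod M).presheaf U.unop
            (x : (top X : TopCat.{0})) h.down).hom a b)).trans (map_add φ _ _))
      naturality := fun {U V} i => by
        ext m
        funext h
        exact congrArg φ ((preP M).germ_res_apply i.unop x h.down m) }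
    (fun U r m => by
      funext h
      exact (congrArg φ (germA_smul M U.unop x h.down r m)).trans
        (map_smul φ ((An.anSpace X).presheaf.germ U.unop x h.down r) _))⟩

theorem toSky_app (φ : MStk M x →ₗ[Stk x] N) (U : Opens (top X)) (m : (pmod M).presheaf.obj (op U))
    (h : PLift (x ∈ U)) :
    (show PLift (x ∈ U) → N from (toSky φ).val.app (op U) m) h = φ (germA M U x h.down m) := rfl

/-- Evaluation at `x` of a morphism to the skyscraper, on sections. -/
noncomputable def evalSky (ψ : M ⟶ sky x N) (U : Opens (top X)) (hx : x ∈ U) :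
    (pmod M).presheaf.obj (op U) →+ N :=
  (Pi.evalAddMonoidHom (fun _ : PLift (x ∈ U) => N) ⟨hx⟩).comp
    (((PresheafOfModules.toPresheaf _).map ψ.val).app (op U)).hom

/-- A morphism to the skyscraper module gives an additive map on the stalk. -/
noncomputable def ofSkyAdd (ψ : M ⟶ sky x N) : MStk M x ⟶ AddCommGrpCat.of N :=
  Limits.colimit.desc _
    { pt := AddCommGrpCat.of N
      ι :=
        { app := fun U => AddCommGrpCat.ofHom (evalSky ψ U.unop.1 U.unop.2)
          naturality := fun {U V} i => by
            ext m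
            exact congr_fun (NatTrans.naturality_apply ((PresheafOfModules.toPresheaf _).map ψ.val)
              ((OpenNhds.inclusion _).map i.unop).op m) ⟨V.unop.2⟩ } }

theorem ofSkyAdd_germ (ψ : M ⟶ sky x N) (U : Opens (top X)) (hx : x ∈ U) (m : (pmod M).presheaf.obj (op U)) :
    ofSkyAdd ψ (germA M U x hx m) = evalSky ψ U hx m := by
  exact (ConcreteCategory.congr_hom ((Limits.colimit.ι_desc
    (F := (OpenNhds.inclusion (x : (top X : TopCat.{0}))).op ⋙ (pmod M).presheaf) _
    (op (id ⟨U, hx⟩ : @OpenNhds (top X) x)))) m :)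

/-- A morphism to the skyscraper module gives a linear map on the stalk. -/
noncomputable def ofSky (ψ : M ⟶ sky x N) : MStk M x →ₗ[Stk x] N where
  toFun := ofSkyAdd ψ
  map_add' := map_add (ofSkyAdd ψ).hom
  map_smul' r t := by
    obtain ⟨U, hx, m, rfl⟩ := exists_germA_eq M x t
    obtain ⟨V, hxV, r, rfl⟩ := exists_germ x r
    have hW : x ∈ U ⊓ V := ⟨hx, hxV⟩
    rw [← (An.anSpace X).presheaf.germ_res_apply (homOfLE (inf_le_right : U ⊓ V ≤ V)) x hW r,
      show germA M U x hx m = germA M (U ⊓ V) x hW ((pmod M).presheaf.map (homOfLE (inf_le_left : U ⊓ V ≤ U)).op m)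
        from ((preP M).germ_res_apply (homOfLE (inf_le_left : U ⊓ V ≤ U)) x hW m).symm,
      ← germA_smul, ofSkyAdd_germ]
    refine Eq.trans ?_ (congrArg (_ • ·) (ofSkyAdd_germ ψ (U ⊓ V) hW _)).symm
    exact congr_fun (map_smul (ψ.val.app (op (U ⊓ V))).hom _ _) ⟨hW⟩

theorem ofSky_germ (ψ : M ⟶ sky x N) (U : Opens (top X)) (hx : x ∈ U) (m : (pmod M).presheaf.obj (op U)) :
    ofSky ψ (germA M U x hx m) = (show PLift (x ∈ U) → N from ψ.val.app (op U) m) ⟨hx⟩ :=
  ofSkyAdd_germ ψ U hx m

end sky

section unit

variable (M : X.Modules) (x : Pts X)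

/-- The unit followed by the germ, on sections. -/
noncomputable def unitGerm (U : X.Opens) (hx : x.pt ∈ U) : Γ(M, U) →+ MStk ((analytify X).obj M) x :=
  (TopCat.Presheaf.germ (C := Ab.{0}) (pmod ((analytify X).obj M)).presheaf ((baseF X).obj U)
    (x : (top X : TopCat.{0})) hx).hom.comp (((analytifyAdj X).unit.app M).app U).hom

/-- The map `M_x → (M^an)_x`. -/
noncomputable def unitStalkHom : M.presheaf.stalk x.pt ⟶ MStk ((analytify X).obj M) x :=
  Limits.colimit.desc _
    { pt := MStk ((analytify X).obj M) x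
      ι :=
        { app := fun U => AddCommGrpCat.ofHom (unitGerm M x U.unop.1 U.unop.2)
          naturality := fun {U V} i => by
            ext m
            change unitGerm M x V.unop.1 V.unop.2 (M.presheaf.map ((OpenNhds.inclusion x.pt).map i.unop).op m) =
              unitGerm M x U.unop.1 U.unop.2 m
            refine Eq.trans (congrArg ((preP ((analytify X).obj M)).germ ((baseF X).obj V.unop.1) x V.unop.2)
              (NatTrans.naturality_apply ((analytifyAdj X).unit.app M).mapPresheaf
                ((OpenNhds.inclusion x.pt).map i.unop).op m)) ?_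
            exact (preP ((analytify X).obj M)).germ_res_apply
              ((baseF X).map ((OpenNhds.inclusion x.pt).map i.unop)) x V.unop.2 _ } }

theorem unitStalkHom_germ (U : X.Opens) (hx : x.pt ∈ U) (m : Γ(M, U)) :
    unitStalkHom M x (germM M U x.pt hx m) =
      germA ((analytify X).obj M) ((baseF X).obj U) x hx (((analytifyAdj X).unit.app M).app U m) := by
  exact (ConcreteCategory.congr_hom ((Limits.colimit.ι_desc
    (F := (OpenNhds.inclusion x.pt).op ⋙ M.presheaf) _ (op (⟨U, hx⟩ : OpenNhds x.pt)))) m :)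

theorem phi_germ (U : X.Opens) (hx : x.pt ∈ U) (r : Γ(X, U)) :
    phi x (X.presheaf.germ U x.pt hx r) =
      (An.anSpace X).presheaf.germ ((baseF X).obj U) x hx ((An.anToScheme X).c.app (op U) r) :=
  PresheafedSpace.stalkMap_germ_apply (An.anToScheme X) U x hx r

theorem unitStalkHom_smul (r : X.presheaf.stalk x.pt) (t : M.presheaf.stalk x.pt) :
    unitStalkHom M x (r • t) = phi x r • unitStalkHom M x t := by
  obtain ⟨U, hx, m, rfl⟩ := exists_germM_eq M x.pt t
  obtain ⟨V, hxV, r, rfl⟩ := X.presheaf.exists_germ_eq (x := x.pt) r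
  have hW : x.pt ∈ U ⊓ V := ⟨hx, hxV⟩
  rw [← X.presheaf.germ_res_apply (homOfLE (inf_le_right : U ⊓ V ≤ V)) x.pt hW r,
    show germM M U x.pt hx m = germM M (U ⊓ V) x.pt hW (M.presheaf.map (homOfLE (inf_le_left : U ⊓ V ≤ U)).op m)
      from (M.presheaf.germ_res_apply (homOfLE (inf_le_left : U ⊓ V ≤ U)) x.pt hW m).symm,
    ← germM_smul, unitStalkHom_germ, unitStalkHom_germ, phi_germ]
  refine Eq.trans ?_ (germA_smul _ _ _ _ _ _)
  exact congrArg _ (Scheme.Modules.Hom.app_smul _ _ _)

/-- `(M^an)_x` as an `O_{X,x}`-module. -/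
noncomputable abbrev moduleOver : Module (X.presheaf.stalk x.pt) (MStk ((analytify X).obj M) x) :=
  Module.compHom (MStk ((analytify X).obj M) x) (phi x)

/-- The unit on stalks, as a linear map. -/
noncomputable def unitStalk :
    letI := moduleOver M x
    M.presheaf.stalk x.pt →ₗ[X.presheaf.stalk x.pt] MStk ((analytify X).obj M) x :=
  letI := moduleOver M x
  { toFun := unitStalkHom M x
    map_add' := map_add (unitStalkHom M x).hom
    map_smul' := unitStalkHom_smul M x }

theorem hom_eq_of_unitStalk {N : Type} [AddCommGroup N] [Module (Stk x) N]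
    (h₁ h₂ : MStk ((analytify X).obj M) x →ₗ[Stk x] N)
    (h : ∀ t, h₁ (unitStalkHom M x t) = h₂ (unitStalkHom M x t)) : h₁ = h₂ := by
  have key : toSky h₁ = toSky h₂ := by
    refine ((analytifyAdj X).homEquiv M (sky x N)).injective ?_
    rw [Adjunction.homEquiv_unit, Adjunction.homEquiv_unit]
    ext U m
    funext hx
    exact (congrArg h₁ (unitStalkHom_germ M x U hx.down m)).symm.trans
      ((h _).trans (congrArg h₂ (unitStalkHom_germ M x U hx.down m)))
  refine LinearMap.ext fun t => ?_
  obtain ⟨U, hx, m, rfl⟩ := exists_germA_eq _ x t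
  exact congr_fun (congrArg (fun ψ : (analytify X).obj M ⟶ sky x N => ψ.val.app (op U) m) key) ⟨hx⟩

/-- The stalk of the analytification is the base change of the stalk. -/
theorem isBaseChange_unitStalk :
    letI := stalkAlgebra x
    letI := moduleOver M x
    haveI : IsScalarTower (X.presheaf.stalk x.pt) (Stk x) (MStk ((analytify X).obj M) x) :=
      IsScalarTower.of_algebraMap_smul fun _ _ => rfl
    IsBaseChange (Stk x) (unitStalk M x) := by
  let := stalkAlgebra x
  let := moduleOver M x
  have : IsScalarTower (X.presheaf.stalk x.pt) (Stk x) (MStk ((analytify X).obj M) x) :=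
    IsScalarTower.of_algebraMap_smul fun _ _ => rfl
  refine IsBaseChange.of_lift_unique _ ?_
  intro Q _ _ _ _ g
  let : AddCommGroup Q := Module.addCommMonoidToAddCommGroup (Stk x)
  have hsmul : ∀ (r : X.presheaf.stalk x.pt) (q : Q), phi x r • q = r • q :=
    fun r q => IsScalarTower.algebraMap_smul _ r q
  let gS : M ⟶ (anPush X).obj (sky x Q) :=
    ⟨PresheafOfModules.homMk
      { app := fun U => AddCommGrpCat.ofHom
          (AddMonoidHom.mk' (G := PLift (x ∈ (baseF X).obj U.unop) → Q)
            (fun (m : Γ(M, U.unop)) h => g (germM M U.unop x.pt h.down m)) fun a b => by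
              funext h
              exact (congrArg g
                (map_add (M.presheaf.germ U.unop x.pt h.down).hom a b)).trans (map_add g _ _))
        naturality := fun {U V} i => by
          ext m
          funext h
          exact congrArg g (M.presheaf.germ_res_apply i.unop x.pt h.down m) }
      (fun U r m => by
        funext h
        refine (congrArg g (germM_smul M U.unop x.pt h.down r m)).trans ?_
        refine (map_smul g (X.presheaf.germ U.unop x.pt h.down r) _).trans ?_
        refine (hsmul _ _).symm.trans ?_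
        exact congrArg (fun s : Stk x => s • g (germM M U.unop x.pt h.down m))
          (phi_germ x U.unop h.down r))⟩
  let ψ := ((analytifyAdj X).homEquiv M (sky x Q)).symm gS
  have hψ : (analytifyAdj X).unit.app M ≫ (anPush X).map ψ = gS :=
    (Adjunction.homEquiv_unit _ _ _ _).symm.trans (Equiv.apply_symm_apply _ _)
  have hg : ∀ t, ofSky ψ (unitStalkHom M x t) = g t := by
    intro t
    obtain ⟨U, hx, m, rfl⟩ := exists_germM_eq M x.pt t
    rw [unitStalkHom_germ]
    refine (ofSky_germ ψ ((baseF X).obj U) hx _).trans ?_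
    exact congr_fun (congrArg (fun φ => Scheme.Modules.Hom.app φ U m) hψ) ⟨hx⟩
  refine ⟨ofSky ψ, LinearMap.ext hg, fun h hh => ?_⟩
  exact hom_eq_of_unitStalk M x _ _ fun t => (LinearMap.congr_fun hh t).trans (hg t).symm

end unit

section map

variable {M N : AnMod X} (x : Pts X)

/-- The underlying map of presheaves. -/
noncomputable abbrev preMap (φ : M ⟶ N) : preP M ⟶ preP N := (PresheafOfModules.toPresheaf _).map φ.val

/-- The linear map on stalks induced by a morphism of `O_{X^an}`-modules. -/
noncomputable def stalkA (φ : M ⟶ N) : MStk M x →ₗ[Stk x] MStk N x where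
  toFun t := (TopCat.Presheaf.stalkFunctor Ab.{0} (x : (top X : TopCat.{0}))).map (preMap φ) t
  map_add' a b := map_add ((TopCat.Presheaf.stalkFunctor Ab.{0} (x : (top X : TopCat.{0}))).map (preMap φ)).hom a b
  map_smul' r t := by
    obtain ⟨U, hx, m, rfl⟩ := exists_germA_eq M x t
    obtain ⟨V, hxV, r, rfl⟩ := exists_germ x r
    have hW : x ∈ U ⊓ V := ⟨hx, hxV⟩
    rw [← (An.anSpace X).presheaf.germ_res_apply (homOfLE (inf_le_right : U ⊓ V ≤ V)) x hW r,
      show germA M U x hx m = germA M (U ⊓ V) x hW ((pmod M).presheaf.map (homOfLE (inf_le_left : U ⊓ V ≤ U)).op m)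
        from ((preP M).germ_res_apply (homOfLE (inf_le_left : U ⊓ V ≤ U)) x hW m).symm,
      ← germA_smul]
    refine (TopCat.Presheaf.stalkFunctor_map_germ_apply (U ⊓ V) x hW _ _).trans ?_
    refine Eq.trans ?_ (congrArg _ (TopCat.Presheaf.stalkFunctor_map_germ_apply (U ⊓ V) x hW _ _).symm)
    refine Eq.trans ?_ (germA_smul N (U ⊓ V) x hW _ _)
    exact congrArg _ (map_smul (φ.val.app (op (U ⊓ V))).hom _ _)

theorem stalkA_germ (φ : M ⟶ N) (U : Opens (top X)) (hx : x ∈ U) (m : (pmod M).presheaf.obj (op U)) :
    stalkA x φ (germA M U x hx m) = germA N U x hx (φ.val.app (op U) m) :=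
  TopCat.Presheaf.stalkFunctor_map_germ_apply U x hx (preMap φ) m

theorem mono_of_injective (φ : M ⟶ N) (h : ∀ x, Function.Injective (stalkA x φ)) : Mono φ := by
  haveI : Mono φ.val := PresheafOfModules.mono_of_injective fun U a b hab => by
    refine TopCat.Presheaf.section_ext (C := Ab.{0}) ⟨(pmod M).presheaf, M.isSheaf⟩ U.unop a b fun z hz => h z ?_
    change stalkA z φ (germA M U.unop z hz a) = stalkA z φ (germA M U.unop z hz b)
    rw [stalkA_germ, stalkA_germ]
    exact congrArg _ hab
  exact (SheafOfModules.forget _).mono_of_mono_map (inferInstanceAs (Mono φ.val))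

end map

theorem stalkA_unit {M N : X.Modules} (φ : M ⟶ N) (x : Pts X) (t : M.presheaf.stalk x.pt) :
    stalkA x ((analytify X).map φ) (unitStalkHom M x t) =
      unitStalkHom N x ((TopCat.Presheaf.stalkFunctor Ab x.pt).map φ.mapPresheaf t) := by
  obtain ⟨U, hx, m, rfl⟩ := exists_germM_eq M x.pt t
  rw [unitStalkHom_germ]
  refine (stalkA_germ x _ _ hx _).trans ?_
  rw [show (TopCat.Presheaf.stalkFunctor Ab x.pt).map φ.mapPresheaf (germM M U x.pt hx m) =
    germM N U x.pt hx (φ.app U m) from TopCat.Presheaf.stalkFunctor_map_germ_apply U x.pt hx _ m, unitStalkHom_germ]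
  refine congrArg _ ?_
  exact (congrArg (fun ψ => Scheme.Modules.Hom.app ψ U m) ((analytifyAdj X).unit.naturality φ)).symm

end Groth.Agent.AnStalk
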