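import Groth.Agent.AnStalk.Weierstrass
import Mathlib.RingTheory.Noetherian.Defs
import Mathlib.RingTheory.Finiteness.Ideal
import Mathlib.RingTheory.Ideal.Quotient.Operations
import Mathlib.LinearAlgebra.FiniteDimensional.Lemmas

/-!
# Germs of holomorphic functions: Noetherianity and the maximal ideal
-/

set_option autoImplicit false

open Metric Filter Topology Set

namespace Groth.Agent.AnStalk.hol

variable {E F : Type} [NormedAddCommGroup E] [NormedSpace ℂ E] [NormedAddCommGroup F] [NormedSpace ℂ F]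
variable [FiniteDimensional ℂ E] [FiniteDimensional ℂ F]

/-- A linear change of coordinates with prescribed vertical direction. -/
theorem exists_coord {n : ℕ} (hF : Module.finrank ℂ F = n + 1) {v : F} (hv : v ≠ 0) :
    ∃ L : ((Fin n → ℂ) × ℂ) ≃L[ℂ] F, ∀ w : ℂ, L (0, w) = w • v := by
  obtain ⟨C, hC⟩ := Submodule.exists_isCompl (Submodule.span ℂ {v})
  have hCn : Module.finrank ℂ C = n := by
    have h1 := Submodule.finrank_add_eq_of_isCompl hC
    rw [finrank_span_singleton hv, hF] at h1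
    omega
  let e : (Fin n → ℂ) ≃ₗ[ℂ] C := LinearEquiv.ofFinrankEq _ _ (by rw [hCn, Module.finrank_fin_fun])
  let l : ((Fin n → ℂ) × ℂ) →ₗ[ℂ] F :=
    LinearMap.coprod (C.subtype.comp e.toLinearMap) (LinearMap.toSpanSingleton ℂ F v)
  have hl : Function.Injective l := by
    rw [injective_iff_map_eq_zero]
    rintro ⟨x, w⟩ h
    change (e x : F) + w • v = 0 at h
    have h1 : (e x : F) ∈ Submodule.span ℂ {v} := by
      rw [eq_neg_of_add_eq_zero_left h, ← neg_smul]
      exact Submodule.smul_mem _ _ (Submodule.mem_span_singleton_self v)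
    have h2 : (e x : F) = 0 := Submodule.disjoint_def.1 hC.disjoint _ h1 (e x).2
    rw [h2, zero_add, smul_eq_zero] at h
    have h3 : e x = 0 := Subtype.ext h2
    exact Prod.ext (by simpa using congrArg e.symm h3) (h.resolve_right hv)
  refine ⟨(LinearMap.linearEquivOfInjective l hl (by simp [hF])).toContinuousLinearEquiv, fun w => ?_⟩
  simp [l, LinearMap.linearEquivOfInjective_apply, LinearMap.toSpanSingleton_apply]

/-- Every nonzero germ becomes, in suitable coordinates, a Weierstrass polynomial times a unit. -/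
theorem exists_preparation {n : ℕ} (hF : Module.finrank ℂ F = n + 1) {g : hol F} (hg : g ≠ 0) :
    ∃ (L : ((Fin n → ℂ) × ℂ) ≃L[ℂ] F) (d : ℕ) (a : (Fin n → ℂ) → Fin d → ℂ)
      (ha : ∀ᶠ z in 𝓝 0, DifferentiableAt ℂ a z) (q : hol ((Fin n → ℂ) × ℂ)),
      a 0 = 0 ∧ IsUnit q ∧ equiv L g = wPoly a ha * q := by
  obtain ⟨f, hf, rfl⟩ := exists_mk g
  obtain ⟨R, hR, hRf⟩ := Metric.eventually_nhds_iff_ball.1 hf
  obtain ⟨v, hv, hvR, hline⟩ : ∃ v : F, v ≠ 0 ∧ ‖v‖ < R ∧ ¬ ∀ᶠ w in 𝓝 (0 : ℂ), f (w • v) = 0 := by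
    have hex : ∃ p ∈ ball (0 : F) R, f p ≠ 0 := by
      by_contra hc
      push Not at hc
      exact hg (Subtype.ext (Germ.coe_eq.2 (eventually_of_mem (ball_mem_nhds 0 hR) hc)))
    obtain ⟨p, hp, hfp⟩ := hex
    rcases eq_or_ne p 0 with rfl | hp0
    · haveI : Nontrivial F := Module.nontrivial_of_finrank_eq_succ hF
      obtain ⟨v, hv⟩ := exists_ne (0 : F)
      have hn : ((R / (2 * ‖v‖) : ℝ) : ℂ) ≠ 0 := by
        have : 0 < ‖v‖ := norm_pos_iff.2 hv
        exact Complex.ofReal_ne_zero.2 (by positivity)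
      refine ⟨((R / (2 * ‖v‖) : ℝ) : ℂ) • v, smul_ne_zero hn hv, ?_, fun h => hfp ?_⟩
      · have : 0 < ‖v‖ := norm_pos_iff.2 hv
        rw [norm_smul, Complex.norm_real, Real.norm_eq_abs, abs_of_pos (by positivity)]
        field_simp
        linarith
      · simpa using h.self_of_nhds
    · refine ⟨p, hp0, mem_ball_zero_iff.1 hp, fun h => hfp ?_⟩
      have hpos : 0 < ‖p‖ := norm_pos_iff.2 hp0
      have hd : DifferentiableOn ℂ (fun w : ℂ => f (w • p)) (ball 0 (R / ‖p‖)) := fun w hw =>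
        ((hRf (w • p) (mem_ball_zero_iff.2 (by
          rw [norm_smul]; exact (lt_div_iff₀ hpos).1 (mem_ball_zero_iff.1 hw)))).comp w (by fun_prop)).differentiableWithinAt
      have h1 := (hd.analyticOnNhd isOpen_ball).eqOn_zero_of_preconnected_of_eventuallyEq_zero
        (convex_ball 0 _).isPreconnected (mem_ball_self (div_pos hR hpos)) h
      have h2 := h1 (show (1 : ℂ) ∈ ball (0 : ℂ) (R / ‖p‖) by
        rw [mem_ball_zero_iff, norm_one, lt_div_iff₀ hpos, one_mul]; exact mem_ball_zero_iff.1 hp)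
      simpa using h2
  obtain ⟨L, hL⟩ := exists_coord hF hv
  let f' : (Fin n → ℂ) × ℂ → ℂ := f ∘ L
  have hf' : ∀ᶠ p in 𝓝 0, DifferentiableAt ℂ f' p :=
    ((L.continuous.tendsto' 0 0 (map_zero L)).eventually hf).mono fun p hp => hp.comp p L.differentiableAt
  have han : AnalyticAt ℂ (fun w : ℂ => f' (0, w)) 0 := by
    refine Complex.analyticAt_iff_eventually_differentiableAt.2 ?_
    filter_upwards [((by fun_prop : Continuous fun w : ℂ => ((0 : Fin n → ℂ), w)).tendsto' 0 0 rfl).eventually hf'] with w hw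
    exact hw.comp w (by fun_prop)
  obtain ⟨d, u, hu, hu0, heq⟩ := (han.exists_eventuallyEq_pow_smul_nonzero_iff).2 (fun h => hline (h.mono fun w hw => by
    simpa [f', hL] using hw))
  obtain ⟨r, hr, hrf⟩ := Metric.eventually_nhds_iff_ball.1
    (((Complex.analyticAt_iff_eventually_differentiableAt.1 hu).and heq).and
      (((by fun_prop : Continuous fun w : ℂ => ((0 : Fin n → ℂ), w)).tendsto' 0 0 rfl).eventually hf'))
  obtain ⟨r', hr', hrf'⟩ := Metric.eventually_nhds_iff_ball.1 hf'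
  obtain ⟨a, q, ha0, ha, hq, hq0, hfq⟩ := preparation (d := d) (f := f') (u := u) (lt_min hr hr')
    (fun p hp => (hrf' p (ball_subset_ball (min_le_right _ _) hp)).differentiableWithinAt)
    (fun w hw => (hrf w (ball_subset_ball (min_le_left _ _) hw)).1.1.differentiableWithinAt) hu0
    (fun w hw => by simpa [smul_eq_mul] using (hrf w (ball_subset_ball (min_le_left _ _) hw)).1.2)
  exact ⟨L, d, a, ha, mk q hq, ha0, (isUnit_iff _).2 (by simpa using hq0), Subtype.ext (Germ.coe_eq.2 hfq)⟩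

theorem isNoetherianRing_aux : ∀ (n : ℕ) (F : Type) [NormedAddCommGroup F] [NormedSpace ℂ F]
    [FiniteDimensional ℂ F], Module.finrank ℂ F = n → IsNoetherianRing (hol F) := by
  intro n
  induction n with
  | zero =>
    intro F _ _ _ hF
    haveI : Subsingleton F := Module.finrank_zero_iff.1 hF
    refine (isNoetherianRing_iff_ideal_fg _).2 fun I => ?_
    by_cases h : I = ⊥
    · exact h ▸ Submodule.fg_bot
    · obtain ⟨g, hg, hg0⟩ := Submodule.exists_mem_ne_zero_of_ne_bot h
      have : I = ⊤ := Ideal.eq_top_of_isUnit_mem I hg ((isUnit_iff g).2 fun hv => hg0 (by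
        obtain ⟨f, hf, rfl⟩ := exists_mk g
        exact Subtype.ext (Germ.coe_eq.2 (.of_forall fun z => by
          rw [Subsingleton.elim z 0]; exact hv))))
      exact this ▸ Ideal.fg_top _
  | succ n ih =>
    intro F _ _ _ hF
    refine (isNoetherianRing_iff_ideal_fg _).2 fun I => ?_
    by_cases h : I = ⊥
    · exact h ▸ Submodule.fg_bot
    obtain ⟨g, hg, hg0⟩ := Submodule.exists_mem_ne_zero_of_ne_bot h
    obtain ⟨L, d, a, ha, q, ha0, hq, heq⟩ := exists_preparation hF hg0
    haveI := ih (Fin n → ℂ) (Module.finrank_fin_fun ℂ)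
    let J : Ideal (hol ((Fin n → ℂ) × ℂ)) := I.map (equiv L : hol F →+* hol ((Fin n → ℂ) × ℂ))
    have hP : wPoly a ha ∈ J := (J.mul_unit_mem_iff_mem hq).1 (heq ▸ Ideal.mem_map_of_mem _ hg)
    let P := Ideal.span {wPoly a ha}
    letI : Algebra (hol (Fin n → ℂ)) (hol ((Fin n → ℂ) × ℂ) ⧸ P) :=
      ((Ideal.Quotient.mk P).comp (base (Fin n → ℂ))).toAlgebra
    haveI : Module.Finite (hol (Fin n → ℂ)) (hol ((Fin n → ℂ) × ℂ) ⧸ P) := by
      classical
      refine Module.Finite.of_fg_top ⟨Finset.univ.image fun j : Fin d => Ideal.Quotient.mk P (wvar (Fin n → ℂ) ^ (j : ℕ)), ?_⟩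
      rw [eq_top_iff]
      rintro x -
      obtain ⟨x, rfl⟩ := Ideal.Quotient.mk_surjective x
      obtain ⟨b, r, hbr⟩ := exists_div ha ha0 x
      rw [hbr, map_add, map_mul, Ideal.Quotient.eq_zero_iff_mem.2 (Ideal.mem_span_singleton_self _), zero_mul,
        zero_add, map_sum]
      refine Submodule.sum_mem _ fun j _ => ?_
      rw [map_mul]
      exact Submodule.smul_mem _ (r j) (Submodule.subset_span (Finset.mem_image_of_mem _ (Finset.mem_univ j)))
    haveI : IsNoetherianRing (hol ((Fin n → ℂ) × ℂ) ⧸ P) := IsNoetherianRing.of_finite (hol (Fin n → ℂ)) _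
    have hJ : J.FG := by
      obtain ⟨s, hs⟩ := (IsNoetherian.noetherian (J.map (Ideal.Quotient.mk P)))
      classical
      have hs' : ∀ x ∈ s, ∃ y ∈ J, Ideal.Quotient.mk P y = x := fun x hx =>
        (Ideal.mem_map_iff_of_surjective _ Ideal.Quotient.mk_surjective).1 (hs ▸ Submodule.subset_span hx)
      choose y hy hy' using hs'
      refine ⟨insert (wPoly a ha) (s.attach.image fun x => y x.1 x.2), le_antisymm ?_ ?_⟩
      · refine Submodule.span_le.2 fun z hz => ?_
        rcases Finset.mem_insert.1 hz with rfl | hz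
        · exact hP
        · obtain ⟨x, -, rfl⟩ := Finset.mem_image.1 hz
          exact hy _ _
      · intro z hz
        let T : Ideal (hol ((Fin n → ℂ) × ℂ)) := Ideal.span ((↑(insert (wPoly a ha) (s.attach.image fun x => y x.1 x.2)) : Set (hol ((Fin n → ℂ) × ℂ))))
        change z ∈ T
        have h1 : J.map (Ideal.Quotient.mk P) ≤ T.map (Ideal.Quotient.mk P) := by
          rw [← hs]
          refine Submodule.span_le.2 fun x hx => ?_
          rw [SetLike.mem_coe, ← hy' x hx]
          exact Ideal.mem_map_of_mem _ (Ideal.subset_span (Finset.mem_insert_of_mem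
            (Finset.mem_image.2 ⟨⟨x, hx⟩, Finset.mem_attach _ _, rfl⟩)))
        have h2 : P ≤ T := Ideal.span_le.2 (Set.singleton_subset_iff.2 (Ideal.subset_span (Finset.mem_insert_self _ _)))
        exact (Ideal.map_le_iff_le_comap.1 h1 hz : z ∈ (T.map (Ideal.Quotient.mk P)).comap _) |> fun h3 => by
          rwa [Ideal.comap_map_mk h2] at h3
    have hI : I = J.map ((equiv L).symm : hol ((Fin n → ℂ) × ℂ) →+* hol F) := by
      rw [Ideal.map_map, RingEquiv.symm_comp, Ideal.map_id]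
    exact hI ▸ hJ.map _

theorem isNoetherianRing (F : Type) [NormedAddCommGroup F] [NormedSpace ℂ F] [FiniteDimensional ℂ F] :
    IsNoetherianRing (hol F) := isNoetherianRing_aux _ F rfl

theorem mem_span_lin_aux : ∀ (n : ℕ) (F : Type) [NormedAddCommGroup F] [NormedSpace ℂ F]
    [FiniteDimensional ℂ F], Module.finrank ℂ F = n → ∀ g : hol F, val g = 0 →
      g ∈ Ideal.span (Set.range (lin : (F →L[ℂ] ℂ) → hol F)) := by
  intro n
  induction n with
  | zero =>
    intro F _ _ _ hF g hg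
    haveI : Subsingleton F := Module.finrank_zero_iff.1 hF
    obtain ⟨f, hf, rfl⟩ := exists_mk g
    have : mk f hf = 0 := Subtype.ext (Germ.coe_eq.2 (.of_forall fun z => by rw [Subsingleton.elim z 0]; exact hg))
    rw [this]
    exact zero_mem _
  | succ n ih =>
    intro F _ _ _ hF g hg
    haveI : Nontrivial F := Module.nontrivial_of_finrank_eq_succ hF
    obtain ⟨v, hv⟩ := exists_ne (0 : F)
    obtain ⟨L, -⟩ := exists_coord hF hv
    have ha : ∀ᶠ z in 𝓝 (0 : Fin n → ℂ), DifferentiableAt ℂ (fun _ : Fin n → ℂ => (0 : Fin 1 → ℂ)) z :=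
      .of_forall fun _ => differentiableAt_const _
    obtain ⟨q, r, hqr⟩ := exists_div ha rfl (equiv L g)
    have hw : wPoly (fun _ : Fin n → ℂ => (0 : Fin 1 → ℂ)) ha = wvar (Fin n → ℂ) :=
      Subtype.ext (Germ.coe_eq.2 (.of_forall fun p => by simp [W]))
    rw [Fin.sum_univ_one, Fin.val_zero, pow_zero, mul_one, hw] at hqr
    have hr : val (r 0) = 0 := by
      have h1 := congrArg val hqr
      have h2 : val (equiv L g) = val g := by
        obtain ⟨f, hf, rfl⟩ := exists_mk g
        exact congrArg f (map_zero L)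
      have h3 : val (base (Fin n → ℂ) (r 0)) = val (r 0) := by
        obtain ⟨f, hf, hfe⟩ := exists_mk (r 0)
        rw [hfe]
        rfl
      rw [map_add, map_mul, val_lin, zero_mul, zero_add, h2, h3, hg] at h1
      exact h1.symm
    let S : Ideal (hol ((Fin n → ℂ) × ℂ)) := Ideal.span (Set.range lin)
    have h4 : equiv L g ∈ S := by
      rw [hqr]
      refine add_mem (S.mul_mem_right _ (Ideal.subset_span ⟨_, rfl⟩)) ?_
      have h5 := Ideal.mem_map_of_mem (base (Fin n → ℂ)) (ih (Fin n → ℂ) (Module.finrank_fin_fun ℂ) _ hr)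
      rw [Ideal.map_span] at h5
      refine Ideal.span_mono ?_ h5
      rintro _ ⟨_, ⟨l, rfl⟩, rfl⟩
      exact ⟨l.comp _, (lcomp_lin _ l).symm⟩
    have h6 := Ideal.mem_map_of_mem ((equiv L).symm : hol ((Fin n → ℂ) × ℂ) →+* hol F) h4
    rw [RingEquiv.coe_toRingHom, RingEquiv.symm_apply_apply] at h6
    simp only [S] at h6
    rw [Ideal.map_span] at h6
    refine Ideal.span_mono ?_ h6
    rintro _ ⟨_, ⟨l, rfl⟩, rfl⟩
    exact ⟨l.comp L.symm.toContinuousLinearMap, (lcomp_lin _ l).symm⟩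

theorem maximalIdeal_le_span_coord {n : ℕ} :
    IsLocalRing.maximalIdeal (hol (Fin n → ℂ)) ≤
      Ideal.span (Set.range fun i : Fin n => lin (ContinuousLinearMap.proj (R := ℂ) (φ := fun _ : Fin n => ℂ) i)) := by
  intro g hg
  refine Ideal.span_le.2 ?_ (mem_span_lin_aux _ _ rfl g ((mem_maximalIdeal_iff g).1 hg))
  rintro _ ⟨l, rfl⟩
  have : lin l = ∑ i : Fin n, const (l (Pi.single i 1)) * lin (ContinuousLinearMap.proj (R := ℂ) (φ := fun _ : Fin n => ℂ) i) := by
    refine Subtype.ext ?_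
    simp only [AddSubmonoidClass.coe_finsetSum, MulMemClass.coe_mul]
    change (↑(l : (Fin n → ℂ) → ℂ) : Germ (𝓝 (0 : Fin n → ℂ)) ℂ) =
      ∑ i : Fin n, (↑(fun _ : Fin n → ℂ => l (Pi.single i 1)) : Germ (𝓝 (0 : Fin n → ℂ)) ℂ) *
        (↑(fun z : Fin n → ℂ => z i) : Germ (𝓝 (0 : Fin n → ℂ)) ℂ)
    rw [show (∑ i : Fin n, (↑(fun _ : Fin n → ℂ => l (Pi.single i 1)) : Germ (𝓝 (0 : Fin n → ℂ)) ℂ) *
        (↑(fun z : Fin n → ℂ => z i) : Germ (𝓝 (0 : Fin n → ℂ)) ℂ)) =
      ↑(∑ i : Fin n, (fun _ : Fin n → ℂ => l (Pi.single i 1)) * (fun z : Fin n → ℂ => z i)) by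
        rw [← Germ.coe_coeRingHom, map_sum]; simp only [map_mul], Germ.coe_eq]
    refine .of_forall fun z => ?_
    conv_lhs => rw [pi_eq_sum_univ' z, map_sum]
    simp [mul_comm]
  rw [SetLike.mem_coe, this]
  exact sum_mem fun i _ => Ideal.mul_mem_left _ _ (Ideal.subset_span ⟨i, rfl⟩)

end Groth.Agent.AnStalk.hol
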