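import Groth.Agent.AnStalk.Chart
import Groth.Agent.AnStalk.Key
import Groth.Agent.AnStalk.Noetherian
import Mathlib.Algebra.Category.Ring.FilteredColimits
import Mathlib.Algebra.Category.Ring.Colimits

/-!
# The stalks of the sheaf of holomorphic functions on `X(ℂ)`
-/

set_option autoImplicit false
set_option backward.isDefEq.respectTransparency false

open AlgebraicGeometry CategoryTheory Limits TopologicalSpace Topology Filter Opposite
open An

namespace Groth.Agent.AnStalk

variable {X : Scheme.{0}} [X.Over SC]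

/-- The stalk of holomorphic functions. -/
noncomputable abbrev Stk (x : Pts X) : CommRingCat.{0} := (An.anSpace X).presheaf.stalk x

open Classical in
/-- Extension by zero of a function on an open. -/
noncomputable def ext0 (U : Opens (Pts X)) (f : U → ℂ) (y : Pts X) : ℂ := if h : y ∈ U then f ⟨y, h⟩ else 0

theorem ext0_of_mem {U : Opens (Pts X)} (f : U → ℂ) {y : Pts X} (h : y ∈ U) : ext0 U f y = f ⟨y, h⟩ := dif_pos h

/-- Sections near `x` to germs of functions. -/
noncomputable def secGerm (x : Pts X) (U : Opens (Pts X)) (hx : x ∈ U) :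
    ↥(An.holSub (X := X) U) →+* Germ (𝓝 x) ℂ where
  toFun f := ↑(ext0 U f.1)
  map_one' := Germ.coe_eq.2 (eventually_of_mem (U.isOpen.mem_nhds hx) fun y hy => by rw [ext0_of_mem _ hy]; rfl)
  map_zero' := Germ.coe_eq.2 (eventually_of_mem (U.isOpen.mem_nhds hx) fun y hy => by rw [ext0_of_mem _ hy]; rfl)
  map_mul' f g := Germ.coe_eq.2 (eventually_of_mem (U.isOpen.mem_nhds hx) fun y hy => by
    simp only [Pi.mul_apply, ext0_of_mem _ hy]; rfl)
  map_add' f g := Germ.coe_eq.2 (eventually_of_mem (U.isOpen.mem_nhds hx) fun y hy => by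
    simp only [Pi.add_apply, ext0_of_mem _ hy]; rfl)

/-- The stalk as germs of functions. -/
noncomputable def gmHom (x : Pts X) : Stk x ⟶ CommRingCat.of (Germ (𝓝 x) ℂ) :=
  colimit.desc ((OpenNhds.inclusion (X := ((An.anSpace X).carrier : TopCat.{0})) (x : (An.anSpace X).carrier)).op ⋙ (An.anSpace X).presheaf)
    { pt := CommRingCat.of (Germ (𝓝 x) ℂ)
      ι :=
        { app := fun U => CommRingCat.ofHom (secGerm x U.unop.1 U.unop.2)
          naturality := fun U V i => by
            ext f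
            exact Germ.coe_eq.2 (eventually_of_mem (V.unop.1.isOpen.mem_nhds V.unop.2) fun y hy => by
              rw [ext0_of_mem _ hy, ext0_of_mem _ (i.unop.le hy)]
              rfl) } }

/-- The stalk as germs of functions, as a ring homomorphism. -/
noncomputable def gm (x : Pts X) : Stk x →+* Germ (𝓝 x) ℂ := (gmHom x).hom

theorem gm_germ (x : Pts X) (U : Opens (Pts X)) (hx : x ∈ U) (f : An.holSub (X := X) U) :
    gm x ((An.anSpace X).presheaf.germ U x hx f) = ↑(ext0 U f.1) :=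
  congrArg (fun φ : (((OpenNhds.inclusion (X := ((An.anSpace X).carrier : TopCat.{0})) (x : (An.anSpace X).carrier)).op ⋙ (An.anSpace X).presheaf).obj (op ⟨U, hx⟩) ⟶ _) => φ f)
    (colimit.ι_desc (F := (OpenNhds.inclusion (X := ((An.anSpace X).carrier : TopCat.{0})) (x : (An.anSpace X).carrier)).op ⋙ (An.anSpace X).presheaf) _ (op ⟨U, hx⟩))

theorem exists_germ (x : Pts X) (h : Stk x) : ∃ (U : Opens (Pts X)) (hx : x ∈ U) (f : An.holSub (X := X) U),
    (An.anSpace X).presheaf.germ U x hx f = h :=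
  TopCat.Presheaf.germ_exist (An.anSpace X).presheaf (x := (x : (An.anSpace X).carrier)) h

theorem gm_injective (x : Pts X) : Function.Injective (gm x) := by
  rw [injective_iff_map_eq_zero]
  intro h hh
  obtain ⟨U, hx, f, rfl⟩ := exists_germ x h
  rw [gm_germ, ← Germ.coe_zero, Germ.coe_eq] at hh
  obtain ⟨V, hV, hVo, hxV⟩ := eventually_nhds_iff.1 hh
  let W : Opens (Pts X) := ⟨V, hVo⟩ ⊓ U
  refine (TopCat.Presheaf.germ_ext (An.anSpace X).presheaf (sV := (0 : An.holSub (X := X) U)) (hxV := hx) W ⟨hxV, hx⟩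
    (homOfLE inf_le_right) (homOfLE inf_le_right) ?_).trans (map_zero _)
  refine Subtype.ext (funext fun y => ?_)
  have := hV y.1 y.2.1
  rw [ext0_of_mem _ y.2.2] at this
  exact this

/-- The analytification map on stalks. -/
noncomputable def phi (x : Pts X) : X.presheaf.stalk x.pt →+* Stk x :=
  (PresheafedSpace.Hom.stalkMap (An.anToScheme X) x).hom

open Classical in
/-- A section as a function near a point. -/
noncomputable def evFun (U : X.Opens) (f : Γ(X, U)) (y : Pts X) : ℂ :=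
  if h : y.pt ∈ U then y.ev U h f else 0

theorem evFun_of_mem {U : X.Opens} (f : Γ(X, U)) {y : Pts X} (h : y.pt ∈ U) : evFun U f y = y.ev U h f := dif_pos h

theorem gm_phi (x : Pts X) (U : X.Opens) (hx : x.pt ∈ U) (f : Γ(X, U)) :
    gm x (phi x (X.presheaf.germ U x.pt hx f)) = ↑(evFun U f) := by
  have h : phi x (X.presheaf.germ U x.pt hx f) =
      (An.anSpace X).presheaf.germ _ x hx (((An.anToScheme X).c.app (op U)) f) :=
    PresheafedSpace.stalkMap_germ_apply (An.anToScheme X) U x hx f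
  rw [h]
  refine (gm_germ x _ hx _).trans (Germ.coe_eq.2 ?_)
  filter_upwards [(Pts.isOpen_preimage_pt U).mem_nhds hx] with y hy
  rw [ext0_of_mem _ (show y ∈ (Opens.map (An.anToScheme X).base).obj U from hy), evFun_of_mem f hy]
  rfl

namespace Chart

variable {x : Pts X} (c : Chart x)

/-- Composition with the centred coordinates. -/
noncomputable def pull : hol (Fin c.n → ℂ) →+* Germ (𝓝 x) ℂ where
  toFun g := g.1.compTendsto (fun y => c.coord y - c.coord x) c.tendsto_sub
  map_one' := rfl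
  map_zero' := rfl
  map_mul' a b := by obtain ⟨f, hf, rfl⟩ := hol.exists_mk a; obtain ⟨g, hg, rfl⟩ := hol.exists_mk b; rfl
  map_add' a b := by obtain ⟨f, hf, rfl⟩ := hol.exists_mk a; obtain ⟨g, hg, rfl⟩ := hol.exists_mk b; rfl

theorem pull_mk {G : (Fin c.n → ℂ) → ℂ} {hG} :
    c.pull (hol.mk G hG) = ↑(fun y => G (c.coord y - c.coord x)) := rfl

theorem pull_mem_range (g : hol (Fin c.n → ℂ)) : c.pull g ∈ (gm x).range := by
  obtain ⟨G, hG, rfl⟩ := hol.exists_mk g
  obtain ⟨r, hr, hrG⟩ := Metric.eventually_nhds_iff_ball.1 hG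
  let U : Opens (Pts X) := ⟨{y | y.pt ∈ c.W ∧ c.coord y ∈ Metric.ball (c.coord x) r}, c.isOpen_preimage Metric.isOpen_ball⟩
  have hxU : x ∈ U := ⟨c.hx, Metric.mem_ball_self hr⟩
  have hsub : ∀ v ∈ Metric.ball (c.coord x) r, v - c.coord x ∈ Metric.ball (0 : Fin c.n → ℂ) r := fun v hv => by
    rw [mem_ball_zero_iff, ← dist_eq_norm]; exact Metric.mem_ball.1 hv
  have hch : An.IsChartFun (X := X) U (fun y => G (c.coord y.1 - c.coord x)) :=
    ⟨c.W, fun y => y.2.1, c.n, c.s, Metric.ball (c.coord x) r, fun v => G (v - c.coord x), Metric.isOpen_ball,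
      fun v hv => ((hrG _ (hsub v hv)).comp v (differentiableAt_id.sub_const _)).differentiableWithinAt,
      fun y => ⟨(c.coord_of_mem y.2.1) ▸ y.2.2, by simp only [← c.coord_of_mem y.2.1]⟩⟩
  refine ⟨(An.anSpace X).presheaf.germ U x hxU
    ⟨fun y => G (c.coord y.1 - c.coord x), An.holPred_of_chartAlg (Algebra.subset_adjoin hch)⟩, ?_⟩
  rw [gm_germ, pull_mk, Germ.coe_eq]
  exact eventually_of_mem (U.isOpen.mem_nhds hxU) fun y hy => ext0_of_mem _ hy

theorem exists_rational {W : X.Opens} (hW : x.pt ∈ W) (t : Γ(X, W)) :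
    ∃ R : (Fin c.n → ℂ) → ℂ, (∀ᶠ v in 𝓝 (c.coord x), DifferentiableAt ℂ R v) ∧
      ∀ᶠ y in 𝓝 x, ∃ h : y.pt ∈ W, y.ev W h t = R (c.coord y) := by
  obtain ⟨b, b', m, hb, hbc⟩ := AnPts.exists_ev_eq_div c.hW t hW c.hx
  obtain ⟨Qb, hQb⟩ := c.exists_poly b
  obtain ⟨Qc, hQc⟩ := c.exists_poly b'
  rw [hQb] at hb
  have hne : ∀ᶠ v in 𝓝 (c.coord x), MvPolynomial.eval v Qb ≠ 0 :=
    (MvPolynomial.continuous_eval Qb).continuousAt.eventually_ne hb
  refine ⟨fun v => MvPolynomial.eval v Qc / MvPolynomial.eval v Qb ^ m, hne.mono fun v hv => ?_, ?_⟩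
  · simp only [div_eq_mul_inv]
    exact (AnPts.differentiable_eval Qc).differentiableAt.fun_mul
      (((AnPts.differentiable_eval Qb).differentiableAt.fun_pow m).fun_inv (pow_ne_zero _ hv))
  · filter_upwards [c.eventually_mem, c.tendsto_coord.eventually hne] with y hy hyb
    obtain ⟨h, he⟩ := hbc y hy (by rw [hQb]; exact hyb)
    exact ⟨h, by rw [he, hQb, hQc]⟩

theorem range_le (h : Stk x) : ∃ g, c.pull g = gm x h := by
  obtain ⟨U, hx, f, rfl⟩ := exists_germ x h
  obtain ⟨V, hxV, i, hV⟩ := f.2 ⟨x, hx⟩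
  have key : ∀ k ∈ An.chartAlg V, ∃ H : (Fin c.n → ℂ) → ℂ, (∀ᶠ v in 𝓝 (c.coord x), DifferentiableAt ℂ H v) ∧
      ∀ᶠ y in 𝓝 x, ∀ hy : y ∈ V, k ⟨y, hy⟩ = H (c.coord y) := by
    intro k hk
    induction hk using Algebra.adjoin_induction with
    | algebraMap a => exact ⟨fun _ => a, .of_forall fun _ => differentiableAt_const a, .of_forall fun y hy => rfl⟩
    | add a b _ _ ha hb =>
      obtain ⟨A, hA, hA'⟩ := ha
      obtain ⟨B, hB, hB'⟩ := hb
      refine ⟨A + B, (hA.and hB).mono fun v hv => hv.1.add hv.2, ?_⟩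
      filter_upwards [hA', hB'] with y h1 h2 hy
      rw [Pi.add_apply, Pi.add_apply, h1 hy, h2 hy]
    | mul a b _ _ ha hb =>
      obtain ⟨A, hA, hA'⟩ := ha
      obtain ⟨B, hB, hB'⟩ := hb
      refine ⟨A * B, (hA.and hB).mono fun v hv => hv.1.mul hv.2, ?_⟩
      filter_upwards [hA', hB'] with y h1 h2 hy
      rw [Pi.mul_apply, Pi.mul_apply, h1 hy, h2 hy]
    | mem a ha =>
      obtain ⟨W, hW, k, t, V', G', hV', hG', hg'⟩ := ha
      choose R hR hRev using fun j => c.exists_rational (hW ⟨x, hxV⟩) (t j)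
      have hRx : (fun j => R j (c.coord x)) ∈ V' := by
        have : (fun j => R j (c.coord x)) = fun j => Pts.ev x W (hW ⟨x, hxV⟩) (t j) :=
          funext fun j => (hRev j).self_of_nhds.2.symm
        rw [this]
        exact (hg' ⟨x, hxV⟩).1
      have hRc : ∀ᶠ v in 𝓝 (c.coord x), (fun j => R j v) ∈ V' :=
        (continuousAt_pi.2 fun j => (hR j).self_of_nhds.continuousAt).eventually_mem (hV'.mem_nhds hRx)
      refine ⟨fun v => G' (fun j => R j v), ?_, ?_⟩
      · filter_upwards [hRc, Filter.eventually_all.2 hR] with v hv hvd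
        exact (hG'.differentiableAt (hV'.mem_nhds hv)).comp v (differentiableAt_pi.2 hvd)
      · filter_upwards [Filter.eventually_all.2 hRev] with y hy hyV
        rw [(hg' ⟨y, hyV⟩).2]
        exact congrArg G' (funext fun j => (hy j).2)
  obtain ⟨H, hH, hH'⟩ := key _ hV
  have hH0 : ∀ᶠ z in 𝓝 (0 : Fin c.n → ℂ), DifferentiableAt ℂ (fun z => H (z + c.coord x)) z :=
    (((continuous_id.add continuous_const).tendsto' 0 (c.coord x) (zero_add _)).eventually hH).mono fun z hz =>
      hz.comp z (differentiableAt_id.add_const _)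
  refine ⟨hol.mk _ hH0, ?_⟩
  rw [pull_mk, gm_germ, Germ.coe_eq]
  filter_upwards [hH', V.isOpen.mem_nhds hxV] with y hy hyV
  rw [sub_add_cancel, ext0_of_mem _ (i.le hyV), ← hy hyV]
  rfl

/-- Germs of holomorphic functions at the origin of the coordinates, onto the stalk. -/
noncomputable def psi : hol (Fin c.n → ℂ) →+* Stk x :=
  (RingEquiv.ofBijective (gm x).rangeRestrict
    ⟨fun a b h => gm_injective x (congrArg Subtype.val h), (gm x).rangeRestrict_surjective⟩).symm.toRingHom.comp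
      (c.pull.codRestrict (gm x).range c.pull_mem_range)

theorem gm_psi (g : hol (Fin c.n → ℂ)) : gm x (c.psi g) = c.pull g :=
  congrArg Subtype.val ((RingEquiv.ofBijective (gm x).rangeRestrict
    ⟨fun a b h => gm_injective x (congrArg Subtype.val h), (gm x).rangeRestrict_surjective⟩).apply_symm_apply
      (c.pull.codRestrict (gm x).range c.pull_mem_range g))

theorem psi_surjective : Function.Surjective c.psi := fun h => by
  obtain ⟨g, hg⟩ := c.range_le h
  exact ⟨g, gm_injective x (by rw [gm_psi, hg])⟩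

end Chart

/-- The value at the point. -/
noncomputable def value (x : Pts X) : Stk x →+* ℂ := (Germ.valueRingHom).comp (gm x)

instance nontrivial_stk (x : Pts X) : Nontrivial (Stk x) := (value x).domain_nontrivial

variable [LocallyOfFiniteType (X ↘ SC)]

instance isLocalRing_stk (x : Pts X) : IsLocalRing (Stk x) := by
  obtain ⟨c⟩ := exists_chart x
  exact IsLocalRing.of_surjective' c.psi c.psi_surjective

instance isNoetherianRing_stk (x : Pts X) : IsNoetherianRing (Stk x) := by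
  obtain ⟨c⟩ := exists_chart x
  haveI := hol.isNoetherianRing (Fin c.n → ℂ)
  exact isNoetherianRing_of_surjective _ _ c.psi c.psi_surjective

variable {x : Pts X}

theorem Chart.maximalIdeal_eq_map (c : Chart x) :
    IsLocalRing.maximalIdeal (Stk x) = (IsLocalRing.maximalIdeal (hol (Fin c.n → ℂ))).map c.psi := by
  haveI : IsLocalHom c.psi := c.psi_surjective.isLocalHom
  exact (IsLocalRing.map_maximalIdeal_of_surjective c.psi c.psi_surjective).symm

theorem Chart.coord_germ (c : Chart x) (i : Fin c.n) :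
    c.psi (hol.lin (ContinuousLinearMap.proj (R := ℂ) (φ := fun _ : Fin c.n => ℂ) i)) =
      phi x (X.presheaf.germ c.W x.pt c.hx (c.s i - str c.W (c.coord x i))) := by
  refine gm_injective x ?_
  rw [c.gm_psi, gm_phi]
  refine Germ.coe_eq.2 ?_
  filter_upwards [c.eventually_mem] with y hy
  rw [evFun_of_mem _ hy]
  change c.coord y i - c.coord x i = y.ev c.W hy (c.s i - str c.W (c.coord x i))
  rw [← AnPts.evHom_apply, map_sub, AnPts.evHom_apply, AnPts.evHom_apply, ev_str, c.coord_of_mem hy]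

theorem value_phi (U : X.Opens) (hx : x.pt ∈ U) (f : Γ(X, U)) :
    value x (phi x (X.presheaf.germ U x.pt hx f)) = x.ev U hx f := by
  change Germ.value (gm x (phi x (X.presheaf.germ U x.pt hx f))) = _
  rw [gm_phi]
  exact evFun_of_mem f hx

theorem germ_mem_maximalIdeal_iff (U : X.Opens) (hx : x.pt ∈ U) (f : Γ(X, U)) :
    X.presheaf.germ U x.pt hx f ∈ IsLocalRing.maximalIdeal (X.presheaf.stalk x.pt) ↔ x.ev U hx f = 0 := by
  rw [IsLocalRing.mem_maximalIdeal, mem_nonunits_iff, ← Scheme.mem_basicOpen _ _ _ hx, ← AnPts.ev_ne_zero_iff x hx, not_not]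

theorem mem_maximalIdeal_iff_value (h : Stk x) : h ∈ IsLocalRing.maximalIdeal (Stk x) ↔ value x h = 0 := by
  haveI : (RingHom.ker (value x)).IsMaximal := RingHom.ker_isMaximal_of_surjective _ fun a => by
    obtain ⟨c⟩ := exists_chart x
    exact ⟨c.psi (hol.const a), by change Germ.value (gm x (c.psi (hol.const a))) = a; rw [c.gm_psi]; rfl⟩
  rw [← IsLocalRing.eq_maximalIdeal ‹(RingHom.ker (value x)).IsMaximal›, RingHom.mem_ker]

theorem map_maximalIdeal :
    (IsLocalRing.maximalIdeal (X.presheaf.stalk x.pt)).map (phi x) = IsLocalRing.maximalIdeal (Stk x) := by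
  refine le_antisymm ?_ ?_
  · refine Ideal.map_le_iff_le_comap.2 fun a ha => ?_
    obtain ⟨U, hx, f, rfl⟩ := TopCat.Presheaf.germ_exist X.presheaf a
    rw [Ideal.mem_comap, mem_maximalIdeal_iff_value, value_phi]
    exact (germ_mem_maximalIdeal_iff U hx f).1 ha
  · obtain ⟨c⟩ := exists_chart x
    rw [c.maximalIdeal_eq_map]
    refine (Ideal.map_mono hol.maximalIdeal_le_span_coord).trans ?_
    rw [Ideal.map_span, Ideal.span_le]
    rintro _ ⟨_, ⟨i, rfl⟩, rfl⟩
    rw [c.coord_germ]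
    refine Ideal.mem_map_of_mem _ ((germ_mem_maximalIdeal_iff _ _ _).2 ?_)
    rw [← AnPts.evHom_apply, map_sub, AnPts.evHom_apply, AnPts.evHom_apply, ev_str, sub_eq_zero, c.coord_of_mem c.hx]

instance isLocalHom_phi : IsLocalHom (phi x) :=
  ((IsLocalRing.local_hom_TFAE (phi x)).out 0 2).2 map_maximalIdeal.le

theorem exists_sub_mem (b : Stk x) (n : ℕ) :
    ∃ a, phi x a - b ∈ IsLocalRing.maximalIdeal (Stk x) ^ n := by
  obtain ⟨c⟩ := exists_chart x
  have h0 : ∀ b, ∃ a, phi x a - b ∈ IsLocalRing.maximalIdeal (Stk x) := fun b =>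
    ⟨X.presheaf.germ c.W x.pt c.hx (str c.W (value x b)), by
      rw [mem_maximalIdeal_iff_value, map_sub, value_phi, ev_str, sub_self]⟩
  induction n with
  | zero => exact ⟨0, by simp⟩
  | succ n ih =>
    obtain ⟨a, ha⟩ := ih
    have key : ∀ z ∈ IsLocalRing.maximalIdeal (Stk x) ^ n, ∃ a', z - phi x a' ∈ IsLocalRing.maximalIdeal (Stk x) ^ (n + 1) := by
      intro z hz
      rw [← map_maximalIdeal, ← Ideal.map_pow, Ideal.map] at hz
      induction hz using Submodule.span_induction with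
      | mem z hz => obtain ⟨p, -, rfl⟩ := hz; exact ⟨p, by simp⟩
      | zero => exact ⟨0, by simp⟩
      | add u v _ _ hu hv =>
        obtain ⟨u', hu⟩ := hu
        obtain ⟨v', hv⟩ := hv
        exact ⟨u' + v', by rw [map_add, add_sub_add_comm]; exact add_mem hu hv⟩
      | smul r u hmem hu =>
        obtain ⟨u', hu⟩ := hu
        obtain ⟨r', hr⟩ := h0 r
        refine ⟨r' * u', ?_⟩
        rw [smul_eq_mul, map_mul, show r * u - phi x r' * phi x u' = phi x r' * (u - phi x u') - (phi x r' - r) * u by ring]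
        refine sub_mem (Ideal.mul_mem_left _ _ hu) ?_
        rw [pow_succ']
        refine Ideal.mul_mem_mul hr ?_
        rw [← map_maximalIdeal, ← Ideal.map_pow]
        exact hmem
    obtain ⟨a', ha'⟩ := key _ ha
    exact ⟨a - a', by rw [map_sub, sub_right_comm]; exact ha'⟩

theorem Chart.exists_bound (c : Chart x) {M : ℕ} {h : Stk x} (hh : h ∈ IsLocalRing.maximalIdeal (Stk x) ^ M) :
    ∃ C : ℝ, ∃ g : Pts X → ℂ, gm x h = ↑g ∧ ∀ᶠ y in 𝓝 x, ‖g y‖ ≤ C * ‖c.coord y - c.coord x‖ ^ M := by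
  rw [c.maximalIdeal_eq_map, ← Ideal.map_pow] at hh
  obtain ⟨G, hG, rfl⟩ := (Ideal.mem_map_iff_of_surjective _ c.psi_surjective).1 hh
  have hO : ∀ (N : ℕ), ∀ G ∈ IsLocalRing.maximalIdeal (hol (Fin c.n → ℂ)) ^ N, ∃ (F : (Fin c.n → ℂ) → ℂ)
      (hF : ∀ᶠ z in 𝓝 0, DifferentiableAt ℂ F z), G = hol.mk F hF ∧ F =O[𝓝 0] fun z => ‖z‖ ^ N := by
    intro N
    induction N with
    | zero =>
      intro G _
      obtain ⟨F, hF, rfl⟩ := hol.exists_mk G
      exact ⟨F, hF, rfl, by simpa using hF.self_of_nhds.continuousAt.norm.isBoundedUnder_le.isBigO_one ℝ⟩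
    | succ N ih =>
      intro G hG
      rw [pow_succ] at hG
      refine Submodule.mul_induction_on hG (fun u hu v hv => ?_) fun u v ⟨F, hF, hu, hu'⟩ ⟨F', hF', hv, hv'⟩ => ?_
      · obtain ⟨F, hF, rfl, hu'⟩ := ih u hu
        obtain ⟨F', hF', rfl⟩ := hol.exists_mk v
        have h0 : F' 0 = 0 := (hol.mem_maximalIdeal_iff _).1 hv
        refine ⟨F * F', _, hol.mk_mul, ?_⟩
        have h1 : F' =O[𝓝 0] fun z => ‖z‖ := by
          simpa [h0] using (hF'.self_of_nhds.hasFDerivAt.isBigO_sub).norm_right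
        simpa [pow_succ, Pi.mul_def] using hu'.mul h1
      · exact ⟨F + F', _, by rw [hu, hv]; exact hol.mk_add, hu'.add hv'⟩
  obtain ⟨F, hF, rfl, hFO⟩ := hO M G hG
  obtain ⟨C, hC⟩ := hFO.bound
  refine ⟨C, fun y => F (c.coord y - c.coord x), by rw [c.gm_psi, c.pull_mk], (c.tendsto_sub.eventually hC).mono fun y hy => ?_⟩
  simpa using hy

theorem mem_pow_of_phi_mem [IsReduced X] {a : X.presheaf.stalk x.pt} {n : ℕ}
    (ha : phi x a ∈ IsLocalRing.maximalIdeal (Stk x) ^ n) : a ∈ IsLocalRing.maximalIdeal (X.presheaf.stalk x.pt) ^ n := by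
  obtain ⟨c⟩ := exists_chart x
  letI : Algebra ℂ Γ(X, c.W) := (str c.W).toAlgebra
  haveI : _root_.IsReduced Γ(X, c.W) := IsReduced.component_reduced c.W
  have haeval : (MvPolynomial.aeval c.s : MvPolynomial (Fin c.n) ℂ →ₐ[ℂ] Γ(X, c.W)).toRingHom =
      MvPolynomial.eval₂Hom (str c.W) c.s := MvPolynomial.ringHom_ext (fun r => by simp [RingHom.algebraMap_toAlgebra]) (fun i => by simp)
  have hsurj : Function.Surjective (MvPolynomial.aeval c.s : MvPolynomial (Fin c.n) ℂ →ₐ[ℂ] Γ(X, c.W)) := fun f => by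
    obtain ⟨Q, hQ⟩ := c.surj f
    exact ⟨Q, (RingHom.congr_fun haeval Q).trans hQ⟩
  haveI : Algebra.FiniteType ℂ Γ(X, c.W) := Algebra.FiniteType.of_surjective _ hsurj
  let xA : Γ(X, c.W) →ₐ[ℂ] ℂ :=
    { AnPts.evHom x c.W c.hx with commutes' := fun r => ev_str x c.W c.hx r }
  obtain ⟨M, hM⟩ := vanishesTo_key c.s hsurj xA n
  let φR := phi x
  -- `a` modulo a high power of the maximal ideal
  have key : ∀ k, ∀ z ∈ IsLocalRing.maximalIdeal (Stk x) ^ n, ∃ p ∈ IsLocalRing.maximalIdeal (X.presheaf.stalk x.pt) ^ n,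
      z - phi x p ∈ IsLocalRing.maximalIdeal (Stk x) ^ k := by
    intro k z hz
    rw [← map_maximalIdeal, ← Ideal.map_pow, Ideal.map] at hz
    induction hz using Submodule.span_induction with
    | mem z hz => obtain ⟨p, hp, rfl⟩ := hz; exact ⟨p, hp, by simp⟩
    | zero => exact ⟨0, zero_mem _, by simp⟩
    | add u v _ _ hu hv =>
      obtain ⟨u', hu', hu⟩ := hu
      obtain ⟨v', hv', hv⟩ := hv
      exact ⟨u' + v', add_mem hu' hv', by rw [map_add, add_sub_add_comm]; exact add_mem hu hv⟩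
    | smul r u _ hu =>
      obtain ⟨u', hu', hu⟩ := hu
      obtain ⟨r', hr⟩ := exists_sub_mem r k
      refine ⟨r' * u', Ideal.mul_mem_left _ _ hu', ?_⟩
      rw [smul_eq_mul, map_mul, show r * u - phi x r' * phi x u' = r * (u - phi x u') - (phi x r' - r) * phi x u' by ring]
      exact sub_mem (Ideal.mul_mem_left _ _ hu) (Ideal.mul_mem_right _ _ hr)
  obtain ⟨p, hp, hap⟩ := key M _ ha
  rw [← map_sub] at hap
  suffices a - p ∈ IsLocalRing.maximalIdeal (X.presheaf.stalk x.pt) ^ n by simpa using add_mem this hp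
  -- clear the denominator
  letI : Algebra Γ(X, c.W) (X.presheaf.stalk x.pt) := (X.presheaf.germ c.W x.pt c.hx).hom.toAlgebra
  haveI : IsLocalization.AtPrime (X.presheaf.stalk x.pt) (c.hW.primeIdealOf ⟨x.pt, c.hx⟩).asIdeal :=
    c.hW.isLocalization_stalk ⟨x.pt, c.hx⟩
  obtain ⟨⟨b, s⟩, hbs⟩ := IsLocalization.surj (c.hW.primeIdealOf ⟨x.pt, c.hx⟩).asIdeal.primeCompl (a - p)
  have hsu : IsUnit (algebraMap Γ(X, c.W) (X.presheaf.stalk x.pt) s) := IsLocalization.map_units _ s
  obtain ⟨C, g, hg, hgb⟩ := c.exists_bound (Ideal.mul_mem_right (phi x (algebraMap Γ(X, c.W) _ s)) _ hap)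
  rw [← map_mul, hbs, RingHom.algebraMap_toAlgebra, gm_phi, Germ.coe_eq] at hg
  have hvan : VanishesTo c.s xA b M := by
    refine ⟨C, ?_⟩
    have hx' : crd c.s xA = c.coord x := by rw [c.coord_of_mem c.hx]; rfl
    rw [hx']
    have h2 := c.eventually_coord ((c.eventually_mem.and hg).and hgb)
    filter_upwards [h2] with v hv y hy
    obtain ⟨z, hz, hzy⟩ := c.point (y : Γ(X, c.W) →+* ℂ) fun r => y.commutes r
    have hcz : c.coord z = v := by
      rw [c.coord_of_mem hz, ← hy]
      exact funext fun i => hzy (c.s i)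
    obtain ⟨⟨-, h3⟩, h4⟩ := hv z hz hcz
    rw [← show z.ev c.W hz b = y b from hzy b, ← evFun_of_mem b hz, h3, ← hcz]
    exact h4
  obtain ⟨t, ht, htb⟩ := hM b hvan
  have hle : (RingHom.ker xA).map (algebraMap Γ(X, c.W) (X.presheaf.stalk x.pt)) ≤ IsLocalRing.maximalIdeal _ :=
    Ideal.map_le_iff_le_comap.2 fun u hu => (germ_mem_maximalIdeal_iff c.W c.hx u).2 hu
  have htu : IsUnit (algebraMap Γ(X, c.W) (X.presheaf.stalk x.pt) t) := by
    by_contra h
    exact ht ((germ_mem_maximalIdeal_iff c.W c.hx t).1 ((IsLocalRing.mem_maximalIdeal _).2 h))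
  have h5 := Ideal.mem_map_of_mem (algebraMap Γ(X, c.W) (X.presheaf.stalk x.pt)) htb
  rw [Ideal.map_pow, map_mul, Ideal.unit_mul_mem_iff_mem _ htu, ← hbs, Ideal.mul_unit_mem_iff_mem _ hsu] at h5
  exact Ideal.pow_right_mono hle n h5

end Groth.Agent.AnStalk
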