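import Groth.Agent.AnStalk.Cauchy
import Groth.Agent.AnStalk.Hol
import Mathlib.Analysis.Calculus.InverseFunctionTheorem.FDeriv
import Mathlib.Analysis.Normed.Operator.BoundedLinearMaps
import Mathlib.Analysis.Analytic.IsolatedZeros
import Mathlib.Analysis.Analytic.Uniqueness
import Mathlib.RingTheory.Noetherian.Basic
import Mathlib.RingTheory.Finiteness.Basic
import Mathlib.LinearAlgebra.Dual.Lemmas

/-!
# Weierstrass preparation and division for germs of holomorphic functions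
-/

set_option autoImplicit false

open Metric Filter Topology Set

namespace Groth.Agent.AnStalk

variable {d : ℕ}

/-- The monic polynomial `w^d + Σ a_i w^i`. -/
def W (a : Fin d → ℂ) (w : ℂ) : ℂ := w ^ d + ∑ i, a i * w ^ (i : ℕ)

/-- The coefficient of `w^j` in `(W a ζ - W a w) / (ζ - w)`. -/
def coef (a : Fin d → ℂ) (j : Fin d) (ζ : ℂ) : ℂ :=
  ζ ^ (d - 1 - (j : ℕ)) + ∑ i : Fin d, if (j : ℕ) < i then a i * ζ ^ ((i : ℕ) - 1 - (j : ℕ)) else 0

theorem W_zero (w : ℂ) : W (0 : Fin d → ℂ) w = w ^ d := by simp [W]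

theorem pow_sub_pow (m : ℕ) (hm : m ≤ d) (ζ w : ℂ) :
    ζ ^ m - w ^ m = (ζ - w) * ∑ j : Fin d, (if (j : ℕ) < m then ζ ^ (m - 1 - (j : ℕ)) else 0) * w ^ (j : ℕ) := by
  have h : ∑ j : Fin d, (if (j : ℕ) < m then ζ ^ (m - 1 - (j : ℕ)) else 0) * w ^ (j : ℕ) =
      ∑ i ∈ Finset.range m, w ^ i * ζ ^ (m - 1 - i) := by
    rw [Fin.sum_univ_eq_sum_range (fun j => (if j < m then ζ ^ (m - 1 - j) else 0) * w ^ j) d,
      ← Finset.sum_subset (Finset.range_subset_range.2 hm) (fun j _ hj => by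
        rw [if_neg (by simpa using hj), zero_mul])]
    exact Finset.sum_congr rfl fun j hj => by rw [if_pos (Finset.mem_range.1 hj), mul_comm]
  rw [h]
  linear_combination geom_sum₂_mul w ζ m

theorem W_sub_W (a : Fin d → ℂ) (ζ w : ℂ) :
    W a ζ - W a w = (ζ - w) * ∑ j, coef a j ζ * w ^ (j : ℕ) := by
  have h1 : ∀ i : Fin d, a i * ζ ^ (i : ℕ) - a i * w ^ (i : ℕ) =
      (ζ - w) * ∑ j : Fin d, (if (j : ℕ) < i then a i * ζ ^ ((i : ℕ) - 1 - (j : ℕ)) else 0) * w ^ (j : ℕ) := by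
    intro i
    rw [← mul_sub, pow_sub_pow i i.2.le, ← mul_assoc, mul_comm (a i), mul_assoc, Finset.mul_sum]
    congr 1
    exact Finset.sum_congr rfl fun j _ => by rw [← mul_assoc, mul_ite, mul_zero]
  calc W a ζ - W a w = (ζ ^ d - w ^ d) + ∑ i, (a i * ζ ^ (i : ℕ) - a i * w ^ (i : ℕ)) := by
        rw [Finset.sum_sub_distrib, W, W]; ring
    _ = _ := by
      rw [pow_sub_pow d le_rfl, Finset.sum_congr rfl fun i _ => h1 i, ← Finset.mul_sum, ← mul_add,
        Finset.sum_comm, ← Finset.sum_add_distrib]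
      congr 1
      exact Finset.sum_congr rfl fun j _ => by rw [coef, if_pos j.2, add_mul, Finset.sum_mul]

variable {E : Type*} [NormedAddCommGroup E] [NormedSpace ℂ E]

/-- The coefficients of the remainder of the division of `g` by `W a`. -/
noncomputable def Rem (ε : ℝ) (g : E × ℂ → ℂ) (p : E × (Fin d → ℂ)) : Fin d → ℂ :=
  fun j => (2 * Real.pi * Complex.I)⁻¹ * ∮ ζ in C(0, ε), g (p.1, ζ) * coef p.2 j ζ / W p.2 ζ

/-- The quotient of the division of `g` by `W a`. -/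
noncomputable def Quot (ε : ℝ) (g : E × ℂ → ℂ) (p : (E × (Fin d → ℂ)) × ℂ) : ℂ :=
  (2 * Real.pi * Complex.I)⁻¹ * ∮ ζ in C(0, ε), g (p.1.1, ζ) / (W p.1.2 ζ * (ζ - p.2))

/-- A radius of parameters `a` with `W a` nonvanishing on the circle. -/
noncomputable def rad (d : ℕ) (ε : ℝ) : ℝ := ε ^ d / (2 * ∑ i : Fin d, ε ^ (i : ℕ) + 1)

theorem rad_pos {ε : ℝ} (hε : 0 < ε) : 0 < rad d ε :=
  div_pos (pow_pos hε _) (by
    have : 0 ≤ ∑ i : Fin d, ε ^ (i : ℕ) := Finset.sum_nonneg fun i _ => pow_nonneg hε.le _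
    linarith)

theorem W_ne_zero {ε : ℝ} (hε : 0 < ε) {a : Fin d → ℂ} (ha : a ∈ ball (0 : Fin d → ℂ) (rad d ε)) {ζ : ℂ}
    (hζ : ζ ∈ sphere (0 : ℂ) ε) : W a ζ ≠ 0 := by
  rw [mem_ball_zero_iff] at ha
  rw [mem_sphere_zero_iff_norm] at hζ
  intro h
  have h1 : ‖ζ ^ d‖ ≤ ∑ i : Fin d, rad d ε * ε ^ (i : ℕ) := by
    rw [eq_neg_of_add_eq_zero_left (show ζ ^ d + ∑ i, a i * ζ ^ (i : ℕ) = 0 from h), norm_neg]
    refine (norm_sum_le _ _).trans (Finset.sum_le_sum fun i _ => ?_)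
    rw [norm_mul, norm_pow, hζ]
    exact mul_le_mul_of_nonneg_right ((norm_le_pi_norm a i).trans ha.le) (pow_nonneg hε.le _)
  rw [norm_pow, hζ, ← Finset.mul_sum, rad, div_mul_eq_mul_div, le_div_iff₀ (by
    have : 0 ≤ ∑ i : Fin d, ε ^ (i : ℕ) := Finset.sum_nonneg fun i _ => pow_nonneg hε.le _
    linarith)] at h1
  have h2 := le_of_mul_le_mul_left h1 (pow_pos hε d)
  have : 0 ≤ ∑ i : Fin d, ε ^ (i : ℕ) := Finset.sum_nonneg fun i _ => pow_nonneg hε.le _
  linarith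

theorem differentiable_coef (j : Fin d) : Differentiable ℂ (fun q : (Fin d → ℂ) × ℂ => coef q.1 j q.2) := by
  unfold coef
  refine Differentiable.add (by fun_prop) (Differentiable.fun_sum fun i _ => ?_)
  by_cases h : (j : ℕ) < i
  · simp only [h, if_true]; fun_prop
  · simp only [h, if_false]; exact differentiable_const _

theorem differentiable_W : Differentiable ℂ (fun q : (Fin d → ℂ) × ℂ => W q.1 q.2) := by
  unfold W; fun_prop

variable {R ε : ℝ}

theorem mem_ball_prod {z : E} {ζ : ℂ} {r : ℝ} (hz : z ∈ ball (0 : E) r) (hζ : ‖ζ‖ < r) :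
    (z, ζ) ∈ ball (0 : E × ℂ) r := by
  rw [mem_ball_zero_iff] at hz ⊢
  exact max_lt hz hζ

theorem differentiableOn_Rem [FiniteDimensional ℂ E] (hε : 0 < ε) (hεR : ε < R) {g : E × ℂ → ℂ}
    (hg : DifferentiableOn ℂ g (ball 0 R)) :
    DifferentiableOn ℂ (Rem ε g : E × (Fin d → ℂ) → Fin d → ℂ) (ball (0 : E) R ×ˢ ball (0 : Fin d → ℂ) (rad d ε)) := by
  refine differentiableOn_pi.2 fun j => DifferentiableOn.const_mul ?_ _
  have h1 : DifferentiableOn ℂ (fun q : (E × (Fin d → ℂ)) × ℂ => g (q.1.1, q.2) * coef q.1.2 j q.2 / W q.1.2 q.2)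
      (((ball (0 : E) R ×ˢ ball (0 : Fin d → ℂ) (rad d ε)) ×ˢ ball (0 : ℂ) R) ∩ {q | W q.1.2 q.2 ≠ 0}) := by
    have hn : DifferentiableOn ℂ (fun q : (E × (Fin d → ℂ)) × ℂ => g (q.1.1, q.2))
        ((ball (0 : E) R ×ˢ ball (0 : Fin d → ℂ) (rad d ε)) ×ˢ ball (0 : ℂ) R) :=
      hg.comp (by fun_prop) fun q hq => mem_ball_prod hq.1.1 (mem_ball_zero_iff.1 hq.2)
    have hc : Differentiable ℂ fun q : (E × (Fin d → ℂ)) × ℂ => coef q.1.2 j q.2 :=
      (differentiable_coef j).comp (by fun_prop : Differentiable ℂ fun q : (E × (Fin d → ℂ)) × ℂ => (q.1.2, q.2))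
    have hw : Differentiable ℂ fun q : (E × (Fin d → ℂ)) × ℂ => W q.1.2 q.2 :=
      differentiable_W.comp (by fun_prop : Differentiable ℂ fun q : (E × (Fin d → ℂ)) × ℂ => (q.1.2, q.2))
    simp only [div_eq_mul_inv]
    exact ((hn.fun_mul hc.differentiableOn).mono inter_subset_left).fun_mul (hw.differentiableOn.fun_inv fun q hq => hq.2)
  have hsub : ∀ p ∈ ball (0 : E) R ×ˢ ball (0 : Fin d → ℂ) (rad d ε), ∀ ζ ∈ sphere (0 : ℂ) ε,
      (p, ζ) ∈ ((ball (0 : E) R ×ˢ ball (0 : Fin d → ℂ) (rad d ε)) ×ˢ ball (0 : ℂ) R) ∩ {q | W q.1.2 q.2 ≠ 0} :=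
    fun p hp ζ hζ => ⟨⟨hp, by rw [mem_ball_zero_iff, mem_sphere_zero_iff_norm.1 hζ]; exact hεR⟩,
      W_ne_zero hε hp.2 hζ⟩
  exact differentiableOn_circleIntegral (isOpen_ball.prod isOpen_ball) hε.le
    (h1.continuousOn.mono fun q hq => hsub q.1 hq.1 q.2 hq.2)
    fun ζ hζ => h1.comp (f := fun p => (p, ζ)) (by fun_prop) fun p hp => hsub p hp ζ hζ

theorem differentiableOn_Quot [FiniteDimensional ℂ E] (hε : 0 < ε) (hεR : ε < R) {g : E × ℂ → ℂ}
    (hg : DifferentiableOn ℂ g (ball 0 R)) :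
    DifferentiableOn ℂ (Quot ε g : (E × (Fin d → ℂ)) × ℂ → ℂ)
      ((ball (0 : E) R ×ˢ ball (0 : Fin d → ℂ) (rad d ε)) ×ˢ ball (0 : ℂ) ε) := by
  refine DifferentiableOn.const_mul ?_ _
  have h1 : DifferentiableOn ℂ
      (fun q : ((E × (Fin d → ℂ)) × ℂ) × ℂ => g (q.1.1.1, q.2) / (W q.1.1.2 q.2 * (q.2 - q.1.2)))
      ((((ball (0 : E) R ×ˢ ball (0 : Fin d → ℂ) (rad d ε)) ×ˢ ball (0 : ℂ) ε) ×ˢ ball (0 : ℂ) R) ∩
        {q | W q.1.1.2 q.2 * (q.2 - q.1.2) ≠ 0}) := by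
    have hn : DifferentiableOn ℂ (fun q : ((E × (Fin d → ℂ)) × ℂ) × ℂ => g (q.1.1.1, q.2))
        (((ball (0 : E) R ×ˢ ball (0 : Fin d → ℂ) (rad d ε)) ×ˢ ball (0 : ℂ) ε) ×ˢ ball (0 : ℂ) R) :=
      hg.comp (by fun_prop) fun q hq => mem_ball_prod hq.1.1.1 (mem_ball_zero_iff.1 hq.2)
    have hw : Differentiable ℂ fun q : ((E × (Fin d → ℂ)) × ℂ) × ℂ => W q.1.1.2 q.2 * (q.2 - q.1.2) :=
      (differentiable_W.comp
        (by fun_prop : Differentiable ℂ fun q : ((E × (Fin d → ℂ)) × ℂ) × ℂ => (q.1.1.2, q.2))).fun_mul (by fun_prop)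
    simp only [div_eq_mul_inv] at hw ⊢
    exact (hn.mono inter_subset_left).fun_mul (hw.differentiableOn.fun_inv fun q hq => hq.2)
  have hsub : ∀ p ∈ (ball (0 : E) R ×ˢ ball (0 : Fin d → ℂ) (rad d ε)) ×ˢ ball (0 : ℂ) ε, ∀ ζ ∈ sphere (0 : ℂ) ε,
      (p, ζ) ∈ (((ball (0 : E) R ×ˢ ball (0 : Fin d → ℂ) (rad d ε)) ×ˢ ball (0 : ℂ) ε) ×ˢ ball (0 : ℂ) R) ∩
        {q | W q.1.1.2 q.2 * (q.2 - q.1.2) ≠ 0} := fun p hp ζ hζ =>
    ⟨⟨hp, by rw [mem_ball_zero_iff, mem_sphere_zero_iff_norm.1 hζ]; exact hεR⟩,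
      mul_ne_zero (W_ne_zero hε hp.1.2 hζ) (sub_ne_zero.2 fun h => by
        have h1 := mem_ball_zero_iff.1 hp.2
        have h2 := mem_sphere_zero_iff_norm.1 hζ
        rw [show ζ = p.2 from h] at h2
        linarith)⟩
  exact differentiableOn_circleIntegral ((isOpen_ball.prod isOpen_ball).prod isOpen_ball) hε.le
    (h1.continuousOn.mono fun q hq => hsub q.1 hq.1 q.2 hq.2)
    fun ζ hζ => h1.comp (f := fun p => (p, ζ)) (by fun_prop) fun p hp => hsub p hp ζ hζ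

/-- Weierstrass division by `W a`. -/
theorem division (hε : 0 < ε) (hεR : ε < R) {g : E × ℂ → ℂ} (hg : DifferentiableOn ℂ g (ball 0 R))
    {z : E} (hz : z ∈ ball (0 : E) R) {a : Fin d → ℂ} (ha : a ∈ ball (0 : Fin d → ℂ) (rad d ε))
    {w : ℂ} (hw : ‖w‖ < ε) :
    g (z, w) = W a w * Quot ε g ((z, a), w) + ∑ j, Rem ε g (z, a) j * w ^ (j : ℕ) := by
  have hd : DifferentiableOn ℂ (fun ζ => g (z, ζ)) (closedBall 0 ε) :=
    hg.comp (by fun_prop) fun ζ hζ => mem_ball_prod hz ((mem_closedBall_zero_iff.1 hζ).trans_lt hεR)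
  have hgc : ContinuousOn (fun ζ => g (z, ζ)) (sphere 0 ε) := hd.continuousOn.mono sphere_subset_closedBall
  have hW : ContinuousOn (fun ζ => W a ζ) (sphere (0 : ℂ) ε) := by unfold W; fun_prop
  have hζw : ∀ ζ ∈ sphere (0 : ℂ) ε, ζ - w ≠ 0 := fun ζ hζ => sub_ne_zero.2 fun h => by
    rw [mem_sphere_zero_iff_norm, h] at hζ; linarith
  have hcj : ∀ j : Fin d, ContinuousOn (fun ζ => coef a j ζ) (sphere (0 : ℂ) ε) := fun j =>
    ((differentiable_coef j).continuous.comp (by fun_prop : Continuous fun ζ : ℂ => (a, ζ))).continuousOn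
  have i1 : CircleIntegrable (fun ζ => W a w * (g (z, ζ) / (W a ζ * (ζ - w)))) 0 ε :=
    ContinuousOn.circleIntegrable hε.le (continuousOn_const.mul (hgc.div (hW.mul (by fun_prop))
      fun ζ hζ => mul_ne_zero (W_ne_zero hε ha hζ) (hζw ζ hζ)))
  have i2 : ∀ j ∈ (Finset.univ : Finset (Fin d)),
      CircleIntegrable (fun ζ => g (z, ζ) * coef a j ζ / W a ζ * w ^ (j : ℕ)) 0 ε := fun j _ =>
    ContinuousOn.circleIntegrable hε.le (((hgc.mul (hcj j)).div hW fun ζ hζ => W_ne_zero hε ha hζ).mul continuousOn_const)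
  have h1 : (∮ ζ in C(0, ε), (ζ - w)⁻¹ • g (z, ζ)) = (2 * Real.pi * Complex.I : ℂ) • g (z, w) :=
    (hd.diffContOnCl_ball Subset.rfl).circleIntegral_sub_inv_smul (mem_ball_zero_iff.2 hw)
  have h2 : (∮ ζ in C(0, ε), (ζ - w)⁻¹ • g (z, ζ)) = W a w * (∮ ζ in C(0, ε), g (z, ζ) / (W a ζ * (ζ - w))) +
      ∑ j, (∮ ζ in C(0, ε), g (z, ζ) * coef a j ζ / W a ζ) * w ^ (j : ℕ) := by
    rw [circleIntegral.integral_congr hε.le
      (g := fun ζ => W a w * (g (z, ζ) / (W a ζ * (ζ - w))) + ∑ j, g (z, ζ) * coef a j ζ / W a ζ * w ^ (j : ℕ))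
      fun ζ hζ => ?_, circleIntegral.integral_add i1 (CircleIntegrable.fun_sum _ i2),
      circleIntegral.integral_const_mul, circleIntegral.integral_fun_sum i2]
    · congr 1
      exact Finset.sum_congr rfl fun j _ => by
        rw [mul_comm _ (w ^ (j : ℕ)), ← circleIntegral.integral_const_mul]
        simp only [mul_comm]
    · have h3 : ∑ j, g (z, ζ) * coef a j ζ / W a ζ * w ^ (j : ℕ) =
          g (z, ζ) * ((W a ζ - W a w) / (ζ - w)) / W a ζ := by
        rw [W_sub_W, mul_div_cancel_left₀ _ (hζw ζ hζ), Finset.mul_sum, Finset.sum_div]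
        exact Finset.sum_congr rfl fun j _ => by ring
      simp only [smul_eq_mul]
      rw [h3]
      have := hζw ζ hζ
      have := W_ne_zero hε ha hζ
      field_simp
      ring
  rw [h1, smul_eq_mul] at h2
  simp only [Quot, Rem]
  have hpi : (2 * Real.pi * Complex.I : ℂ) ≠ 0 := Complex.two_pi_I_ne_zero
  rw [Finset.sum_congr rfl fun j _ => mul_assoc _ _ _, ← Finset.mul_sum, mul_left_comm, ← mul_add, ← h2,
    inv_mul_cancel_left₀ hpi]

/-- Weierstrass preparation. -/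
theorem preparation [FiniteDimensional ℂ E] {f : E × ℂ → ℂ} {R : ℝ} (hR : 0 < R)
    (hf : DifferentiableOn ℂ f (ball 0 R)) {u : ℂ → ℂ} (hu : DifferentiableOn ℂ u (ball 0 R))
    (hu0 : u 0 ≠ 0) (hfu : ∀ w ∈ ball (0 : ℂ) R, f (0, w) = w ^ d * u w) :
    ∃ (a : E → Fin d → ℂ) (q : E × ℂ → ℂ), a 0 = 0 ∧ (∀ᶠ z in 𝓝 0, DifferentiableAt ℂ a z) ∧
      (∀ᶠ p in 𝓝 0, DifferentiableAt ℂ q p) ∧ q 0 ≠ 0 ∧ ∀ᶠ p in 𝓝 0, f p = W (a p.1) p.2 * q p := by
  set ε := R / 2 with hεdef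
  have hε : 0 < ε := half_pos hR
  have hεR : ε < R := half_lt_self hR
  let U : Set (E × (Fin d → ℂ)) := ball (0 : E) R ×ˢ ball (0 : Fin d → ℂ) (rad d ε)
  have hU : IsOpen U := isOpen_ball.prod isOpen_ball
  have h0U : (0 : E × (Fin d → ℂ)) ∈ U := ⟨mem_ball_self hR, mem_ball_self (rad_pos hε)⟩
  let Ψ : E × (Fin d → ℂ) → Fin d → ℂ := Rem ε f
  let K : Fin d → (E × (Fin d → ℂ)) → Fin d → ℂ := fun i => Rem ε (fun p => p.2 ^ (i : ℕ) * u p.2)
  have hgi : ∀ i : Fin d, DifferentiableOn ℂ (fun p : E × ℂ => p.2 ^ (i : ℕ) * u p.2) (ball 0 R) := fun i =>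
    DifferentiableOn.mul (by fun_prop) (hu.comp (by fun_prop) fun p hp =>
      mem_ball_zero_iff.2 ((norm_snd_le p).trans_lt (mem_ball_zero_iff.1 hp)))
  have hud : DifferentiableOn ℂ u (closedBall 0 ε) := hu.mono (closedBall_subset_ball hεR)
  have hΨa : ∀ a ∈ ball (0 : Fin d → ℂ) (rad d ε), ∀ j, Ψ (0, a) j = -∑ i, a i * K i (0, a) j := by
    intro a ha j
    have hWc : ContinuousOn (fun ζ => W a ζ) (sphere (0 : ℂ) ε) := by unfold W; fun_prop
    have hcj : Differentiable ℂ fun ζ => coef a j ζ :=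
      (differentiable_coef j).comp (by fun_prop : Differentiable ℂ fun ζ : ℂ => (a, ζ))
    have huc : ContinuousOn u (sphere (0 : ℂ) ε) := hud.continuousOn.mono sphere_subset_closedBall
    have i2 : ∀ i ∈ (Finset.univ : Finset (Fin d)),
        CircleIntegrable (fun ζ => a i * (ζ ^ (i : ℕ) * u ζ * coef a j ζ / W a ζ)) 0 ε := fun i _ =>
      ContinuousOn.circleIntegrable hε.le (continuousOn_const.mul ((((continuousOn_id.pow _).mul huc).mul
        hcj.continuous.continuousOn).div hWc fun ζ hζ => W_ne_zero hε ha hζ))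
    have i1 : CircleIntegrable (fun ζ => u ζ * coef a j ζ) 0 ε :=
      ContinuousOn.circleIntegrable hε.le (huc.mul hcj.continuous.continuousOn)
    have hzero : (∮ ζ in C(0, ε), u ζ * coef a j ζ) = 0 :=
      Complex.circleIntegral_eq_zero_of_differentiable_on_off_countable hε.le countable_empty
        (hud.mul hcj.differentiableOn).continuousOn fun ζ hζ =>
          ((hu.differentiableAt (isOpen_ball.mem_nhds (ball_subset_ball hεR.le hζ.1))).mul (hcj ζ))
    simp only [Ψ, K, Rem]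
    rw [circleIntegral.integral_congr hε.le
      (g := fun ζ => u ζ * coef a j ζ - ∑ i, a i * (ζ ^ (i : ℕ) * u ζ * coef a j ζ / W a ζ)) fun ζ hζ => ?_,
      circleIntegral.integral_sub i1 (CircleIntegrable.fun_sum _ i2), hzero, circleIntegral.integral_fun_sum i2,
      zero_sub, mul_neg, Finset.mul_sum]
    · congr 1
      exact Finset.sum_congr rfl fun i _ => by rw [circleIntegral.integral_const_mul]; ring
    · simp only
      rw [hfu ζ (sphere_subset_ball hεR hζ)]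
      have := W_ne_zero hε ha hζ
      have h1 : ζ ^ d = W a ζ - ∑ i, a i * ζ ^ (i : ℕ) := by simp [W]
      rw [h1, sub_mul, sub_mul, sub_div, Finset.sum_mul, Finset.sum_mul, Finset.sum_div]
      congr 1
      · field_simp
      · exact Finset.sum_congr rfl fun i _ => by ring
  have hΨd : DifferentiableOn ℂ Ψ U := differentiableOn_Rem hε hεR hf
  have hKd : ∀ i, DifferentiableOn ℂ (K i) U := fun i => differentiableOn_Rem hε hεR (hgi i)
  let Ψ' : E × (Fin d → ℂ) → E × (Fin d → ℂ) := fun p => (p.1, Ψ p)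
  have hΨ'd : ∀ᶠ p in 𝓝 (0 : E × (Fin d → ℂ)), DifferentiableAt ℂ Ψ' p :=
    (eventually_of_mem (hU.mem_nhds h0U) fun p hp => differentiableAt_fst.prodMk (hΨd.differentiableAt (hU.mem_nhds hp)))
  have hΨ0 : HasFDerivAt Ψ (fderiv ℂ Ψ 0) 0 := (hΨd.differentiableAt (hU.mem_nhds h0U)).hasFDerivAt
  let D := fderiv ℂ Ψ' (0 : E × (Fin d → ℂ))
  have hD : D = (ContinuousLinearMap.fst ℂ E (Fin d → ℂ)).prod (fderiv ℂ Ψ 0) :=
    (hasFDerivAt_fst.prodMk hΨ0).fderiv
  have hD2 : ∀ v j, fderiv ℂ Ψ 0 (0, v) j = -∑ i, v i * K i 0 j := by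
    intro v j
    have h1 : HasFDerivAt (fun a : Fin d → ℂ => Ψ (0, a) j)
        ((ContinuousLinearMap.proj j).comp ((fderiv ℂ Ψ 0).comp (ContinuousLinearMap.inr ℂ E (Fin d → ℂ)))) 0 :=
      (ContinuousLinearMap.proj (R := ℂ) (φ := fun _ : Fin d => ℂ) j).hasFDerivAt.comp _
        ((show HasFDerivAt Ψ _ ((0 : E), (0 : Fin d → ℂ)) from hΨ0).comp 0 (hasFDerivAt_prodMk_right (0 : E) 0))
    have hterm : ∀ i, HasFDerivAt (fun a : Fin d → ℂ => a i * K i ((0 : E), a) j)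
        ((K i 0 j) • ContinuousLinearMap.proj (R := ℂ) (φ := fun _ : Fin d => ℂ) i) 0 := by
      intro i
      have hk : DifferentiableAt ℂ (fun a : Fin d → ℂ => K i ((0 : E), a) j) 0 :=
        (differentiableAt_pi.1 ((hKd i).differentiableAt (hU.mem_nhds h0U)) j).comp (0 : Fin d → ℂ)
          (show DifferentiableAt ℂ (fun a : Fin d → ℂ => ((0 : E), a)) 0 by fun_prop)
      have := (ContinuousLinearMap.proj (R := ℂ) (φ := fun _ : Fin d => ℂ) i).hasFDerivAt.fun_mul hk.hasFDerivAt (x := 0)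
      refine this.congr_fderiv ?_
      refine ContinuousLinearMap.ext fun v => ?_
      simp only [add_apply, smul_apply, map_zero, smul_eq_mul, zero_mul, zero_add]
      rfl
    have h2 := ((HasFDerivAt.fun_sum (u := Finset.univ) fun i _ => hterm i).neg).congr_of_eventuallyEq
      (eventually_of_mem (ball_mem_nhds (0 : Fin d → ℂ) (rad_pos hε)) fun a ha => hΨa a ha j)
    have h3 := DFunLike.congr_fun (h1.unique h2) v
    simpa [Finset.sum_mul, mul_comm] using h3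
  have hinj : Function.Injective D := by
    rw [injective_iff_map_eq_zero]
    rintro ⟨z, v⟩ h
    rw [hD] at h
    simp only [ContinuousLinearMap.prod_apply, ContinuousLinearMap.coe_fst', Prod.mk_eq_zero] at h
    obtain ⟨rfl, h⟩ := h
    refine Prod.ext rfl (funext fun m => ?_)
    have hvz : ∀ j, ∑ i, v i * K i 0 j = 0 := fun j => by
      have := congrFun h j
      rwa [hD2, Pi.zero_apply, neg_eq_zero] at this
    -- `Σ v_i w^i u(w)` is divisible by `w^d`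
    have hdiv : ∀ w : ℂ, ‖w‖ < ε → (∑ i, v i * w ^ (i : ℕ)) * u w =
        w ^ d * ∑ i, v i * Quot ε (fun p : E × ℂ => p.2 ^ (i : ℕ) * u p.2) (((0 : E), (0 : Fin d → ℂ)), w) := by
      intro w hw
      have h3 : ∀ i : Fin d, w ^ (i : ℕ) * u w = w ^ d * Quot ε (fun p : E × ℂ => p.2 ^ (i : ℕ) * u p.2) (((0 : E), (0 : Fin d → ℂ)), w) +
          ∑ j, K i 0 j * w ^ (j : ℕ) := fun i => by
        have := division (d := d) (z := (0 : E)) (a := 0) hε hεR (hgi i) (mem_ball_self hR) (mem_ball_self (rad_pos hε)) hw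
        rwa [W_zero] at this
      rw [Finset.sum_mul, Finset.mul_sum]
      have : ∑ i, v i * ∑ j, K i 0 j * w ^ (j : ℕ) = 0 := by
        simp_rw [Finset.mul_sum]
        rw [Finset.sum_comm]
        refine Finset.sum_eq_zero fun j _ => ?_
        simp_rw [← mul_assoc, ← Finset.sum_mul, hvz j, zero_mul]
      rw [← add_zero (∑ i, w ^ d * _), ← this, ← Finset.sum_add_distrib]
      exact Finset.sum_congr rfl fun i _ => by rw [mul_assoc, h3 i]; ring
    obtain ⟨m, hm⟩ := m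
    induction m using Nat.strong_induction_on with
    | _ m ih =>
      let P : ℂ → ℂ := fun w => ∑ i : Fin d, if m ≤ (i : ℕ) then v i * w ^ ((i : ℕ) - m) else 0
      let Q : ℂ → ℂ := fun w => ∑ i, v i * Quot ε (fun p : E × ℂ => p.2 ^ (i : ℕ) * u p.2) (((0 : E), (0 : Fin d → ℂ)), w)
      have hP : ∀ w : ℂ, ∑ i, v i * w ^ (i : ℕ) = w ^ m * P w := fun w => by
        rw [Finset.mul_sum]
        refine Finset.sum_congr rfl fun i _ => ?_
        rcases le_or_gt m (i : ℕ) with h | h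
        · rw [if_pos h, mul_left_comm, ← pow_add, Nat.add_sub_cancel' h]
        · rw [if_neg (not_le.2 h), mul_zero, show v i = 0 from ih i h i.2, zero_mul]
      have hP0 : P 0 = v ⟨m, hm⟩ := by
        simp only [P]
        rw [Finset.sum_eq_single ⟨m, hm⟩]
        · simp
        · intro i _ hi
          rcases lt_trichotomy m (i : ℕ) with h | h | h
          · rw [if_pos h.le, zero_pow (by omega), mul_zero]
          · exact absurd (Fin.ext h.symm) hi
          · rw [if_neg (not_le.2 h)]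
        · simp
      have hQc : ContinuousAt Q 0 := by
        refine tendsto_finsetSum _ (fun i _ => (tendsto_const_nhds.mul ?_))
        exact ((differentiableOn_Quot hε hεR (hgi i)).differentiableAt
          (((isOpen_ball.prod isOpen_ball).prod isOpen_ball).mem_nhds ⟨h0U, mem_ball_self hε⟩)).continuousAt.comp
            (by fun_prop : ContinuousAt (fun w : ℂ => (((0 : E), (0 : Fin d → ℂ)), w)) 0)
      have hlim : (fun w => P w * u w) =ᶠ[𝓝[≠] 0] fun w => w ^ (d - m) * Q w := by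
        filter_upwards [mem_nhdsWithin_of_mem_nhds (ball_mem_nhds (0 : ℂ) hε), self_mem_nhdsWithin] with w hw hne
        refine mul_left_cancel₀ (pow_ne_zero m hne) ?_
        rw [← mul_assoc, ← hP, ← mul_assoc, ← pow_add, Nat.add_sub_cancel' hm.le]
        exact hdiv w (mem_ball_zero_iff.1 hw)
      have e1 : Tendsto (fun w => P w * u w) (𝓝[≠] 0) (𝓝 (P 0 * u 0)) :=
        ((show ContinuousAt P 0 from tendsto_finsetSum _ (fun i _ =>
          (Continuous.tendsto (by split_ifs <;> fun_prop) 0))).mul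
          (hu.differentiableAt (ball_mem_nhds 0 hR)).continuousAt).tendsto.mono_left nhdsWithin_le_nhds
      have e2 : Tendsto (fun w => w ^ (d - m) * Q w) (𝓝[≠] 0) (𝓝 ((0 : ℂ) ^ (d - m) * Q 0)) :=
        (((continuousAt_id.pow _).mul hQc)).tendsto.mono_left nhdsWithin_le_nhds
      have := tendsto_nhds_unique e1 (e2.congr' hlim.symm)
      rw [hP0, zero_pow (by omega), zero_mul] at this
      exact (mul_eq_zero.1 this).resolve_right hu0
  let De : (E × (Fin d → ℂ)) ≃L[ℂ] (E × (Fin d → ℂ)) :=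
    (LinearEquiv.ofInjectiveEndo (D : E × (Fin d → ℂ) →ₗ[ℂ] E × (Fin d → ℂ)) hinj).toContinuousLinearEquiv
  have hDe : (De : E × (Fin d → ℂ) →L[ℂ] E × (Fin d → ℂ)) = D := ContinuousLinearMap.ext fun _ => rfl
  haveI : CompleteSpace E := FiniteDimensional.complete ℂ E
  have hs : HasStrictFDerivAt Ψ' (De : E × (Fin d → ℂ) →L[ℂ] E × (Fin d → ℂ)) 0 :=
    hDe ▸ hasStrictFDerivAt_of_eventually hΨ'd
  let Φ := hs.toOpenPartialHomeomorph Ψ'
  have hΦ : ⇑Φ = Ψ' := hs.toOpenPartialHomeomorph_coe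
  have h0 : Ψ' 0 = 0 := Prod.ext rfl (funext fun j => by
    change Ψ (0, 0) j = 0
    rw [hΨa 0 (mem_ball_self (rad_pos hε))]
    simp)
  have hsrc : (0 : E × (Fin d → ℂ)) ∈ Φ.source := hs.mem_toOpenPartialHomeomorph_source
  have htgt : (0 : E × (Fin d → ℂ)) ∈ Φ.target := h0 ▸ hs.image_mem_toOpenPartialHomeomorph_target
  have hsym0 : Φ.symm 0 = 0 := by
    have := Φ.left_inv hsrc
    rwa [hΦ, h0] at this
  have hsymt : Tendsto Φ.symm (𝓝 0) (𝓝 0) := by
    have h : Tendsto Φ.symm (𝓝 0) (𝓝 (Φ.symm 0)) := Φ.symm.continuousAt htgt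
    rwa [hsym0] at h
  have hinv : ∀ᶠ p in 𝓝 (0 : E × (Fin d → ℂ)), fderiv ℂ Ψ' p ∈
      Set.range ((↑) : ((E × (Fin d → ℂ)) ≃L[ℂ] (E × (Fin d → ℂ))) → _) :=
    (continuousAt_fderiv hΨ'd).eventually_mem (ContinuousLinearEquiv.isOpen.mem_nhds ⟨De, hDe⟩)
  have hsymd : ∀ᶠ t in 𝓝 (0 : E × (Fin d → ℂ)), DifferentiableAt ℂ Φ.symm t := by
    filter_upwards [Φ.open_target.mem_nhds htgt, hsymt.eventually hinv, hsymt.eventually hΨ'd] with t ht ⟨e, he⟩ hd
    refine (Φ.hasFDerivAt_symm (f' := e) ht ?_).differentiableAt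
    rw [hΦ, he]
    exact hd.hasFDerivAt
  let a : E → Fin d → ℂ := fun z => (Φ.symm (z, 0)).2
  let q : E × ℂ → ℂ := fun p => Quot ε f ((p.1, a p.1), p.2)
  have ha0 : a 0 = 0 := by simp only [a, Prod.mk_zero_zero, hsym0]; rfl
  have hin : Tendsto (fun z : E => (z, (0 : Fin d → ℂ))) (𝓝 0) (𝓝 0) :=
    (continuous_id.prodMk continuous_const).tendsto' 0 0 rfl
  have had : ∀ᶠ z in 𝓝 0, DifferentiableAt ℂ a z := (hin.eventually hsymd).mono fun z hz =>
    differentiableAt_snd.comp z (hz.comp z (show DifferentiableAt ℂ (fun z : E => (z, (0 : Fin d → ℂ))) z by fun_prop))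
  have haz : ∀ᶠ z in 𝓝 0, Ψ (z, a z) = 0 := by
    filter_upwards [hin.eventually (Φ.open_target.mem_nhds htgt)] with z hz
    have h := Φ.right_inv hz
    rw [hΦ] at h
    have h1 : (Φ.symm (z, 0)).1 = z := congrArg Prod.fst h
    have h2 : Ψ (Φ.symm (z, 0)) = 0 := congrArg Prod.snd h
    rwa [show Φ.symm (z, 0) = (z, a z) from Prod.ext h1 rfl] at h2
  have hmem : ∀ᶠ p in 𝓝 (0 : E × ℂ), DifferentiableAt ℂ a p.1 ∧ Ψ (p.1, a p.1) = 0 ∧ p.1 ∈ ball (0 : E) R ∧
      a p.1 ∈ ball (0 : Fin d → ℂ) (rad d ε) ∧ ‖p.2‖ < ε := by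
    have h1 : Tendsto (Prod.fst : E × ℂ → E) (𝓝 0) (𝓝 0) := continuous_fst.tendsto' 0 0 rfl
    have h2 : Tendsto a (𝓝 0) (𝓝 0) := by simpa [ha0] using had.self_of_nhds.continuousAt.tendsto
    filter_upwards [h1.eventually had, h1.eventually haz, h1.eventually (ball_mem_nhds 0 hR),
      (h2.comp h1).eventually (ball_mem_nhds 0 (rad_pos hε)),
      (continuous_snd.norm.tendsto' (0 : E × ℂ) 0 (by simp)).eventually (gt_mem_nhds hε)] with p a1 a2 a3 a4 a5
    exact ⟨a1, a2, a3, a4, a5⟩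
  refine ⟨a, q, ha0, had, ?_, ?_, ?_⟩
  · filter_upwards [hmem] with p ⟨hp1, _, hp3, hp4, hp5⟩
    exact DifferentiableAt.comp (f := fun p : E × ℂ => ((p.1, a p.1), p.2)) (g := Quot ε f) p
      ((differentiableOn_Quot hε hεR hf).differentiableAt
      (((isOpen_ball.prod isOpen_ball).prod isOpen_ball).mem_nhds ⟨⟨hp3, hp4⟩, mem_ball_zero_iff.2 hp5⟩))
      ((differentiableAt_fst.prodMk (hp1.comp p differentiableAt_fst)).prodMk differentiableAt_snd)
  · have hc : ContinuousAt (fun w : ℂ => Quot ε f (((0 : E), a 0), w)) 0 :=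
      ((differentiableOn_Quot hε hεR hf).differentiableAt (((isOpen_ball.prod isOpen_ball).prod isOpen_ball).mem_nhds
        ⟨⟨mem_ball_self hR, ha0.symm ▸ mem_ball_self (rad_pos hε)⟩, mem_ball_self hε⟩)).continuousAt.comp
          (by fun_prop : ContinuousAt (fun w : ℂ => (((0 : E), a 0), w)) 0)
    have heq : (fun w : ℂ => Quot ε f (((0 : E), a 0), w)) =ᶠ[𝓝[≠] 0] u := by
      filter_upwards [mem_nhdsWithin_of_mem_nhds (ball_mem_nhds (0 : ℂ) hε), self_mem_nhdsWithin] with w hw hne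
      have h := division hε hεR hf (mem_ball_self hR) (ha0.symm ▸ mem_ball_self (rad_pos hε)) (mem_ball_zero_iff.1 hw) (a := a 0)
      rw [hfu w (ball_subset_ball hεR.le hw), show Rem ε f (0, a 0) = 0 from haz.self_of_nhds, ha0, W_zero] at h
      simp only [Pi.zero_apply, zero_mul, Finset.sum_const_zero, add_zero] at h
      rw [ha0]
      exact (mul_left_cancel₀ (pow_ne_zero d hne) h).symm
    have h1 := (hc.tendsto.mono_left nhdsWithin_le_nhds).congr' heq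
    have h2 := (hu.differentiableAt (ball_mem_nhds 0 hR)).continuousAt.tendsto.mono_left
      (nhdsWithin_le_nhds (a := (0 : ℂ)) (s := {0}ᶜ))
    have h3 := tendsto_nhds_unique h1 h2
    change Quot ε f (((0 : E), a 0), (0 : ℂ)) ≠ 0
    rwa [h3]
  · filter_upwards [hmem] with p ⟨_, hp2, hp3, hp4, hp5⟩
    have h := division hε hεR hf hp3 hp4 hp5
    rw [show Rem ε f (p.1, a p.1) = 0 from hp2] at h
    simpa using h

namespace hol

variable (E) in
/-- Pullback along the projection `E × ℂ → E`. -/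
noncomputable abbrev base : hol E →+* hol (E × ℂ) := lcomp (ContinuousLinearMap.fst ℂ E ℂ)

variable (E) in
/-- The last coordinate. -/
noncomputable abbrev wvar : hol (E × ℂ) := lin (ContinuousLinearMap.snd ℂ E ℂ)

/-- The germ of `W (a z) w`. -/
noncomputable def wPoly (a : E → Fin d → ℂ) (ha : ∀ᶠ z in 𝓝 0, DifferentiableAt ℂ a z) : hol (E × ℂ) :=
  mk (fun p => W (a p.1) p.2)
    (((continuous_fst.tendsto' (0 : E × ℂ) 0 rfl).eventually ha).mono fun p hp =>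
      (differentiable_W _).comp p ((hp.comp p differentiableAt_fst).prodMk differentiableAt_snd))

/-- Weierstrass division, for germs. -/
theorem exists_div [FiniteDimensional ℂ E] {a : E → Fin d → ℂ} (ha : ∀ᶠ z in 𝓝 0, DifferentiableAt ℂ a z)
    (ha0 : a 0 = 0) (g : hol (E × ℂ)) :
    ∃ (q : hol (E × ℂ)) (r : Fin d → hol E), g = wPoly a ha * q + ∑ j, base E (r j) * wvar E ^ (j : ℕ) := by
  obtain ⟨f, hf, rfl⟩ := exists_mk g
  obtain ⟨R, hR, hRf⟩ := Metric.eventually_nhds_iff_ball.1 hf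
  have hfd : DifferentiableOn ℂ f (ball 0 R) := fun p hp => (hRf p hp).differentiableWithinAt
  set ε := R / 2 with hεdef
  have hε : 0 < ε := half_pos hR
  have hεR : ε < R := half_lt_self hR
  have h1 : Tendsto a (𝓝 0) (𝓝 0) := by simpa [ha0] using ha.self_of_nhds.continuousAt.tendsto
  have hz : ∀ᶠ z in 𝓝 (0 : E), DifferentiableAt ℂ a z ∧ z ∈ ball (0 : E) R ∧ a z ∈ ball (0 : Fin d → ℂ) (rad d ε) :=
    ha.and ((eventually_mem_nhds_iff.2 (ball_mem_nhds 0 hR) |>.mono fun _ h => mem_of_mem_nhds h).and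
      (h1.eventually (ball_mem_nhds 0 (rad_pos hε))))
  have hp : ∀ᶠ p in 𝓝 (0 : E × ℂ), (DifferentiableAt ℂ a p.1 ∧ p.1 ∈ ball (0 : E) R ∧
      a p.1 ∈ ball (0 : Fin d → ℂ) (rad d ε)) ∧ ‖p.2‖ < ε :=
    ((continuous_fst.tendsto' (0 : E × ℂ) 0 rfl).eventually hz).and
      ((continuous_snd.norm.tendsto' (0 : E × ℂ) 0 (by simp)).eventually (gt_mem_nhds hε))
  refine ⟨mk (fun p => Quot ε f ((p.1, a p.1), p.2)) ?_, fun j => mk (fun z => Rem ε f (z, a z) j) ?_, ?_⟩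
  · filter_upwards [hp] with p ⟨⟨hp1, hp3, hp4⟩, hp5⟩
    exact DifferentiableAt.comp (f := fun p : E × ℂ => ((p.1, a p.1), p.2)) (g := Quot ε f) p
      ((differentiableOn_Quot hε hεR hfd).differentiableAt
      (((isOpen_ball.prod isOpen_ball).prod isOpen_ball).mem_nhds ⟨⟨hp3, hp4⟩, mem_ball_zero_iff.2 hp5⟩))
      ((differentiableAt_fst.prodMk (hp1.comp p differentiableAt_fst)).prodMk differentiableAt_snd)
  · filter_upwards [hz] with z ⟨hz1, hz2, hz3⟩
    exact differentiableAt_pi.1 (DifferentiableAt.comp (f := fun z : E => (z, a z)) (g := Rem ε f) z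
      ((differentiableOn_Rem hε hεR hfd).differentiableAt ((isOpen_ball.prod isOpen_ball).mem_nhds ⟨hz2, hz3⟩))
      (differentiableAt_id.prodMk hz1)) j
  · refine Subtype.ext ?_
    simp only [AddMemClass.coe_add, MulMemClass.coe_mul, AddSubmonoidClass.coe_finsetSum, SubmonoidClass.coe_pow]
    change (↑f : Germ (𝓝 (0 : E × ℂ)) ℂ) =
      ↑(fun p : E × ℂ => W (a p.1) p.2) * ↑(fun p : E × ℂ => Quot ε f ((p.1, a p.1), p.2)) +
        ∑ j : Fin d, (↑(fun p : E × ℂ => Rem ε f (p.1, a p.1) j) : Germ (𝓝 (0 : E × ℂ)) ℂ) *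
          (↑(fun p : E × ℂ => p.2) : Germ (𝓝 (0 : E × ℂ)) ℂ) ^ (j : ℕ)
    have hsum : (∑ j : Fin d, (↑(fun p : E × ℂ => Rem ε f (p.1, a p.1) j) : Germ (𝓝 (0 : E × ℂ)) ℂ) *
          (↑(fun p : E × ℂ => p.2) : Germ (𝓝 (0 : E × ℂ)) ℂ) ^ (j : ℕ)) =
        ↑(∑ j : Fin d, (fun p : E × ℂ => Rem ε f (p.1, a p.1) j) * (fun p : E × ℂ => p.2) ^ (j : ℕ)) := by
      rw [← Germ.coe_coeRingHom, map_sum]
      simp only [map_mul, map_pow]
    rw [hsum, ← Germ.coe_mul, ← Germ.coe_add, Germ.coe_eq]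
    filter_upwards [hp] with p ⟨⟨hp1, hp3, hp4⟩, hp5⟩
    simp only [Pi.add_apply, Pi.mul_apply, Finset.sum_apply, Pi.pow_apply]
    exact division hε hεR hfd hp3 hp4 hp5

end hol

end Groth.Agent.AnStalk
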